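import Cfsg.Agent.SpFourEven.Basic
import Cfsg.Agent.ExtField.SympMaximal

/-!
# Normalisers of quadratic field subalgebras in four-dimensional symplectic groups of characteristic two
-/

set_option autoImplicit false
set_option linter.unusedSectionVars false

namespace CfsgLib.SpFourEven

open Matrix Cfsg.Geo CfsgLib.MaxSub

variable {F : Type*} [Field F] [Fintype F]

local notation "V" => (Fin 2 ⊕ Fin 2 → F)
local notation "ω" => Cfsg.sympForm 2 F
local notation "Mat" => Matrix (Fin 2 ⊕ Fin 2) (Fin 2 ⊕ Fin 2) F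
local notation "G" => GL (Fin 2 ⊕ Fin 2) F

/-- The vector `x` lies on the line of `v` over `K`. -/
def InLine (K : Subalgebra F Mat) (v x : V) : Prop := ∃ k ∈ K, x = k *ᵥ v

/-- A quadratic field of self-adjoint matrices, with a generator. -/
structure Quad (K : Subalgebra F Mat) (κ : Mat) (τ ν : F) : Prop where
  field : IsFieldSubalgebra 2 K
  mem : κ ∈ K
  irr : ∀ r : F, κ ≠ r • 1
  rel : κ * κ = τ • κ + ν • 1
  gen : ∀ k ∈ K, ∃ p q : F, k = p • 1 + q • κ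
  sa : ∀ k ∈ K, ∀ u v : V, ω (k *ᵥ u) v = ω u (k *ᵥ v)
  alt : ∀ k ∈ K, ∀ v : V, ω (k *ᵥ v) v = 0

theorem exists_quad {K : Subalgebra F Mat} (hK : IsFieldSubalgebra 2 K)
    (hsa : IsSelfAdjointFor (Cfsg.sympForm 2 F) K)
    (halt : ∀ k ∈ K, ∀ v : V, ω (k *ᵥ v) v = 0) : ∃ (κ : Mat) (τ ν : F), Quad K κ τ ν := by
  obtain ⟨κ, hκ, hirr⟩ : ∃ κ ∈ K, ∀ r : F, κ ≠ r • 1 := by
    by_contra hcon
    push Not at hcon
    have hle : Subalgebra.toSubmodule K ≤ Submodule.span F ({1} : Set Mat) := fun k hk => by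
      obtain ⟨r, hr⟩ := hcon k hk
      exact Submodule.mem_span_singleton.2 ⟨r, hr.symm⟩
    have h1 := Submodule.finrank_mono hle
    have h3 : Module.finrank F (Submodule.span F ({1} : Set Mat)) = 1 := finrank_span_singleton one_ne_zero
    have h4 : Module.finrank F (Subalgebra.toSubmodule K) = 2 := hK.finrank_eq
    omega
  have hgen : ∀ k ∈ K, ∃ p q : F, k = p • 1 + q • κ := by
    intro k hk
    have hli : LinearIndependent F ![(1 : Mat), κ] := by
      refine linearIndependent_fin2.2 ⟨fun e => hirr 0 (by simpa using e), fun r e => ?_⟩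
      simp at e
      rcases eq_or_ne r 0 with rfl | hr
      · simp at e
      · exact hirr r⁻¹ (by rw [← e, inv_smul_smul₀ hr])
    have hle : Submodule.span F (Set.range ![(1 : Mat), κ]) ≤ Subalgebra.toSubmodule K := by
      rw [Submodule.span_le]
      rintro _ ⟨i, rfl⟩
      fin_cases i
      · exact K.one_mem
      · exact hκ
    have heq := Submodule.eq_of_le_of_finrank_le hle (by
      rw [finrank_span_eq_card hli]
      exact le_of_eq hK.finrank_eq)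
    obtain ⟨c, hc⟩ := (Submodule.mem_span_range_iff_exists_fun F).1 (heq.symm ▸ hk :
      k ∈ Submodule.span F (Set.range ![(1 : Mat), κ]))
    exact ⟨c 0, c 1, by simpa [Fin.sum_univ_two] using hc.symm⟩
  obtain ⟨ν, τ, hrel⟩ := hgen _ (K.mul_mem hκ hκ)
  exact ⟨κ, τ, ν, hK, hκ, hirr, by rw [hrel, add_comm], hgen, hsa, halt⟩

variable {K : Subalgebra F (Matrix (Fin 2 ⊕ Fin 2) (Fin 2 ⊕ Fin 2) F)}
  {κ : Matrix (Fin 2 ⊕ Fin 2) (Fin 2 ⊕ Fin 2) F} {τ ν : F}

theorem Quad.smul_mem (hQ : Quad K κ τ ν) (p q : F) : p • (1 : Mat) + q • κ ∈ K :=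
  K.add_mem (K.smul_mem K.one_mem p) (K.smul_mem hQ.mem q)

theorem Quad.eq_zero (hQ : Quad K κ τ ν) {k : Mat} (hk : k ∈ K) {v : V} (hv : v ≠ 0) (h : k *ᵥ v = 0) :
    k = 0 := by
  by_contra hne
  obtain ⟨k', hk', hkk⟩ := hQ.field.inv k hk hne
  have e := congrArg (k' *ᵥ ·) h
  simp only [mulVec_mulVec, ← hQ.field.comm k hk k' hk', hkk, one_mulVec, mulVec_zero] at e
  exact hv e

theorem Quad.pq_zero (hQ : Quad K κ τ ν) {p q : F} {v : V} (hv : v ≠ 0)
    (h : p • v + q • (κ *ᵥ v) = 0) : p = 0 ∧ q = 0 := by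
  have e := hQ.eq_zero (hQ.smul_mem p q) hv (by rw [add_mulVec, smul_mulVec, smul_mulVec, one_mulVec, h])
  rcases eq_or_ne q 0 with rfl | hq
  · rw [zero_smul, add_zero] at e
    exact ⟨(smul_eq_zero.1 e).resolve_right one_ne_zero, rfl⟩
  · refine absurd ?_ (hQ.irr (-(q⁻¹ * p)))
    have e' := congrArg (q⁻¹ • ·) e
    simp only [smul_add, smul_smul, inv_mul_cancel₀ hq, one_smul, smul_zero] at e'
    rw [neg_smul]
    exact eq_neg_of_add_eq_zero_right e'

theorem Quad.indep (hQ : Quad K κ τ ν) {v b : V} (hv : v ≠ 0) (hb : ¬ InLine K v b) :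
    LinearIndependent F ![v, κ *ᵥ v, b, κ *ᵥ b] := by
  rw [Fintype.linearIndependent_iff]
  intro g hg
  simp only [Fin.sum_univ_four, Matrix.cons_val_zero, Matrix.cons_val_one, Matrix.cons_val] at hg
  have hk := hQ.smul_mem (g 2) (g 3)
  have e : (g 2 • (1 : Mat) + g 3 • κ) *ᵥ b = -((g 0 • (1 : Mat) + g 1 • κ) *ᵥ v) := by
    rw [add_mulVec, add_mulVec, smul_mulVec, smul_mulVec, smul_mulVec, smul_mulVec, one_mulVec, one_mulVec]
    rw [← sub_eq_zero, sub_neg_eq_add, ← hg]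
    abel
  have h23 : g 2 • (1 : Mat) + g 3 • κ = 0 := by
    by_contra hne
    obtain ⟨k', hk', hkk⟩ := hQ.field.inv _ hk hne
    refine hb ⟨-(k' * (g 0 • (1 : Mat) + g 1 • κ)), K.neg_mem (K.mul_mem hk' (hQ.smul_mem _ _)), ?_⟩
    have e' := congrArg (k' *ᵥ ·) e
    simp only [mulVec_mulVec, ← hQ.field.comm _ hk k' hk', hkk, one_mulVec, mulVec_neg] at e'
    rw [neg_mulVec]
    exact e'
  have hb0 : b ≠ 0 := fun e => hb ⟨0, K.zero_mem, by rw [e, zero_mulVec]⟩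
  obtain ⟨h2', h3'⟩ := hQ.pq_zero hb0 (p := g 2) (q := g 3) (by
    rw [← one_mulVec b, mulVec_mulVec, mul_one, ← smul_mulVec, ← smul_mulVec, ← add_mulVec, h23,
      zero_mulVec])
  obtain ⟨h0', h1'⟩ := hQ.pq_zero hv (p := g 0) (q := g 1) (by
    rw [h2', h3', zero_smul, zero_smul, add_zero, add_zero] at hg
    exact hg)
  intro i
  fin_cases i <;> assumption

/-- The basis attached to two vectors on different lines. -/
noncomputable def Quad.basis (hQ : Quad K κ τ ν) {v b : V} (hv : v ≠ 0) (hb : ¬ InLine K v b) :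
    Module.Basis (Fin 4) F V :=
  basisOfLinearIndependentOfCardEqFinrank (hQ.indep hv hb) (by simp)

theorem Quad.basis_apply (hQ : Quad K κ τ ν) {v b : V} (hv : v ≠ 0) (hb : ¬ InLine K v b) :
    ⇑(hQ.basis hv hb) = ![v, κ *ᵥ v, b, κ *ᵥ b] := by
  rw [Quad.basis, coe_basisOfLinearIndependentOfCardEqFinrank]

theorem Quad.eq_of_four (hQ : Quad K κ τ ν) {v b : V} (hv : v ≠ 0) (hb : ¬ InLine K v b) {A B : Mat}
    (h0 : A *ᵥ v = B *ᵥ v) (h1 : A *ᵥ (κ *ᵥ v) = B *ᵥ (κ *ᵥ v)) (h2 : A *ᵥ b = B *ᵥ b)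
    (h3 : A *ᵥ (κ *ᵥ b) = B *ᵥ (κ *ᵥ b)) : A = B := by
  refine Matrix.toLin'.injective ((hQ.basis hv hb).ext fun i => ?_)
  rw [hQ.basis_apply hv hb, Matrix.toLin'_apply, Matrix.toLin'_apply]
  fin_cases i <;> assumption

/-- A transvection over `K`. -/
theorem Quad.exists_root (hQ : Quad K κ τ ν) (h2 : (2 : F) = 0) {v b : V} (hv : v ≠ 0)
    (hb : ¬ InLine K v b) {k : Mat} (hk : k ∈ K) :
    ∃ g ∈ subalgebraNormalizer K ⊓ Cfsg.spGL 2 F, (g : Mat) *ᵥ v = v ∧ (g : Mat) *ᵥ (κ *ᵥ v) = κ *ᵥ v ∧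
      (g : Mat) *ᵥ b = b + k *ᵥ v ∧ (g : Mat) *ᵥ (κ *ᵥ b) = κ *ᵥ b + κ *ᵥ (k *ᵥ v) := by
  classical
  set e := hQ.basis hv hb with he
  let T : V →ₗ[F] V := e.constr F ![v, κ *ᵥ v, b + k *ᵥ v, κ *ᵥ b + κ *ᵥ (k *ᵥ v)]
  have hTb : ∀ i, T (![v, κ *ᵥ v, b, κ *ᵥ b] i) = ![v, κ *ᵥ v, b + k *ᵥ v, κ *ᵥ b + κ *ᵥ (k *ᵥ v)] i :=
    fun i => by
      rw [← hQ.basis_apply hv hb]
      exact e.constr_basis F _ i
  have hT0 : T v = v := hTb 0
  have hT1 : T (κ *ᵥ v) = κ *ᵥ v := hTb 1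
  have hT2 : T b = b + k *ᵥ v := hTb 2
  have hT3 : T (κ *ᵥ b) = κ *ᵥ b + κ *ᵥ (k *ᵥ v) := hTb 3
  have hpres : ∀ x y, ω (T x) (T y) = ω x y := by
    have e1 : (Forms.sympBilin 2 F).compl₁₂ T T = Forms.sympBilin 2 F := by
      refine LinearMap.ext_basis e e fun i j => ?_
      rw [LinearMap.compl₁₂_apply, Forms.sympBilin_apply, Forms.sympBilin_apply, hQ.basis_apply hv hb,
        hTb, hTb]
      have hpair : ∀ {A B A' B' : Mat}, A ∈ K → B ∈ K → A' ∈ K → B' ∈ K →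
          ω (A *ᵥ v + B *ᵥ b) (A' *ᵥ v + B' *ᵥ b) = ω v ((A * B' + A' * B) *ᵥ b) := by
        intro A B A' B' hA hB hA' hB'
        have z : ∀ {k₁ k₂ : Mat}, k₁ ∈ K → k₂ ∈ K → ∀ x : V, ω (k₁ *ᵥ x) (k₂ *ᵥ x) = 0 := fun {k₁ k₂} h₁ h₂ x => by
          rw [sy h2 (k₂ *ᵥ x) (k₁ *ᵥ x), hQ.sa _ h₂, mulVec_mulVec, sy h2 _ x]
          exact hQ.alt _ (K.mul_mem h₂ h₁) x
        rw [add_l, add_r, add_r, z hA hA', z hB hB', hQ.sa _ hA, mulVec_mulVec,
          sy h2 (A' *ᵥ v) (B *ᵥ b), hQ.sa _ hA', mulVec_mulVec, add_mulVec, add_r]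
        ring
      have hco : ∀ i, ∃ A ∈ K, ∃ B ∈ K, (![v, κ *ᵥ v, b, κ *ᵥ b] i) = A *ᵥ v + B *ᵥ b ∧
          (![v, κ *ᵥ v, b + k *ᵥ v, κ *ᵥ b + κ *ᵥ (k *ᵥ v)] i) = (A + B * k) *ᵥ v + B *ᵥ b := by
        intro i
        fin_cases i
        · exact ⟨1, K.one_mem, 0, K.zero_mem, by simp, by simp⟩
        · exact ⟨κ, hQ.mem, 0, K.zero_mem, by simp, by simp⟩
        · exact ⟨0, K.zero_mem, 1, K.one_mem, by simp, by simp [add_comm]⟩
        · exact ⟨0, K.zero_mem, κ, hQ.mem, by simp, by simp [add_comm, mulVec_mulVec]⟩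
      obtain ⟨A, hA, B, hB, e₁, e₂⟩ := hco i
      obtain ⟨A', hA', B', hB', e₁', e₂'⟩ := hco j
      rw [e₁, e₂, e₁', e₂', hpair hA hB hA' hB',
        hpair (K.add_mem hA (K.mul_mem hB hk)) hB (K.add_mem hA' (K.mul_mem hB' hk)) hB']
      congr 2
      have e3 : B * k * B' = B' * k * B := by
        rw [hQ.field.comm B hB k hk, mul_assoc, hQ.field.comm B hB B' hB', ← mul_assoc,
          hQ.field.comm k hk B' hB']
      have e4 : B * k * B' + B' * k * B = 0 := by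
        rw [e3, ← two_smul F (B' * k * B), h2, zero_smul]
      rw [add_mul, add_mul, add_add_add_comm, e4, add_zero]
    exact fun x y => by
      have := LinearMap.congr_fun (LinearMap.congr_fun e1 x) y
      simpa [LinearMap.compl₁₂_apply, Forms.sympBilin_apply] using this
  have hinj : Function.Injective fun x => LinearMap.toMatrix' T *ᵥ x := fun x y hxy => by
    simp only [LinearMap.toMatrix'_mulVec] at hxy
    rw [← sub_eq_zero]
    by_contra hne
    obtain ⟨z, hz⟩ := (isSymplecticForm_sympForm.nondegenerate _ hne).2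
    refine hz ?_
    rw [← hpres, map_sub, hxy, sub_self, sesq_sympForm.zero_left]
  set g : G := (mulVec_injective_iff_isUnit.1 hinj).unit with hgdef
  have hgx : ∀ x, (g : Mat) *ᵥ x = T x := fun x => by
    rw [hgdef, IsUnit.unit_spec, LinearMap.toMatrix'_mulVec]
  have hcomm : (g : Mat) * κ = κ * (g : Mat) := by
    refine hQ.eq_of_four hv hb ?_ ?_ ?_ ?_ <;> rw [← mulVec_mulVec, ← mulVec_mulVec] <;>
      simp only [hgx, hT0, hT1, hT2, hT3, mulVec_add]
    · rw [mulVec_mulVec, hQ.rel, add_mulVec, smul_mulVec, smul_mulVec, one_mulVec, map_add, map_smul,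
        map_smul, hT0, hT1]
    · rw [mulVec_mulVec b κ κ, mulVec_mulVec (k *ᵥ v) κ κ, hQ.rel, add_mulVec, smul_mulVec, smul_mulVec,
        one_mulVec, map_add, map_smul, map_smul, hT2, hT3, add_mulVec, smul_mulVec, smul_mulVec, one_mulVec]
      module
  refine ⟨g, ⟨ExtField.mem_normalizer_of_commute fun k' hk' => ?_, mem_spGL_iff.2 fun x y => ?_⟩,
    (hgx _).trans hT0, (hgx _).trans hT1, (hgx _).trans hT2, (hgx _).trans hT3⟩
  · obtain ⟨p, q, rfl⟩ := hQ.gen k' hk'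
    rw [mul_add, add_mul, Matrix.mul_smul, Matrix.mul_smul, Matrix.smul_mul, Matrix.smul_mul, hcomm,
      mul_one, one_mul]
  · rw [hgx, hgx]; exact hpres x y

/-- Matrices keeping every line over `K` invariant lie in `K`. -/
theorem Quad.mem_of_lines (hQ : Quad K κ τ ν) {A : Mat} (h : ∀ v : V, v ≠ 0 → InLine K v (A *ᵥ v)) :
    A ∈ K := by
  have hex : ∀ v : V, ∃ b, ¬ InLine K v b := fun v => by
    by_contra hcon
    push Not at hcon
    have hle : (⊤ : Submodule F V) ≤ Submodule.span F ({v, κ *ᵥ v} : Set V) := fun x _ => by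
      obtain ⟨k, hk, rfl⟩ := hcon x
      obtain ⟨p, q, rfl⟩ := hQ.gen k hk
      rw [add_mulVec, smul_mulVec, smul_mulVec, one_mulVec]
      exact Submodule.add_mem _ (Submodule.smul_mem _ _ (Submodule.subset_span (Set.mem_insert _ _)))
        (Submodule.smul_mem _ _ (Submodule.subset_span (Set.mem_insert_of_mem _ rfl)))
    classical
    have h1 := Submodule.finrank_mono hle
    have h5 : Module.finrank F (Submodule.span F ({v, κ *ᵥ v} : Set V)) ≤ 2 := by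
      refine (finrank_span_le_card _).trans ?_
      rw [Set.toFinset_insert, Set.toFinset_singleton]
      exact Finset.card_le_two
    rw [finrank_top, Module.finrank_fintype_fun_eq_card] at h1
    simp at h1
    omega
  have hsame : ∀ {x y : V} {k₁ k₂ : Mat}, x ≠ 0 → ¬ InLine K x y → k₁ ∈ K → k₂ ∈ K →
      A *ᵥ x = k₁ *ᵥ x → A *ᵥ y = k₂ *ᵥ y → k₁ = k₂ := by
    intro x y k₁ k₂ hx hxy h1 h2 e1 e2
    obtain ⟨k₃, h3, e3⟩ := h (x + y) (fun e => hxy ⟨-1, K.neg_mem K.one_mem, by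
      rw [neg_mulVec, one_mulVec]; exact eq_neg_of_add_eq_zero_right e⟩)
    rw [mulVec_add, mulVec_add, e1, e2] at e3
    have e4 : (k₁ - k₃) *ᵥ x = (k₃ - k₂) *ᵥ y := by
      rw [sub_mulVec, sub_mulVec, sub_eq_sub_iff_add_eq_add]
      rw [e3]
      abel
    by_cases hne : k₃ - k₂ = 0
    · rw [hne, zero_mulVec] at e4
      rw [← sub_eq_zero.1 hne, ← sub_eq_zero.1 (hQ.eq_zero (K.sub_mem h1 h3) hx e4)]
    · obtain ⟨k', hk', hkk⟩ := hQ.field.inv _ (K.sub_mem h3 h2) hne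
      refine absurd ⟨k' * (k₁ - k₃), K.mul_mem hk' (K.sub_mem h1 h3), ?_⟩ hxy
      rw [← mulVec_mulVec, e4, mulVec_mulVec, ← hQ.field.comm _ (K.sub_mem h3 h2) k' hk', hkk, one_mulVec]
  set e₀ : V := Pi.single (Sum.inl 0) 1
  have he₀ : e₀ ≠ 0 := by simp [e₀]
  obtain ⟨b, hb⟩ := hex e₀
  obtain ⟨k₁, hk₁, e1⟩ := h e₀ he₀
  have hb0 : b ≠ 0 := fun e => hb ⟨0, K.zero_mem, by rw [e, zero_mulVec]⟩
  obtain ⟨k₂, hk₂, e2⟩ := h b hb0
  have h12 := hsame he₀ hb hk₁ hk₂ e1 e2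
  suffices hA : A = k₁ by rw [hA]; exact hk₁
  refine Matrix.ext_iff_mulVec.mpr fun x => ?_
  by_cases hx : x = 0
  · rw [hx, mulVec_zero, mulVec_zero]
  obtain ⟨k₃, hk₃, e3⟩ := h x hx
  by_cases hxe : InLine K e₀ x
  · have hxb : ¬ InLine K b x := by
      rintro ⟨k, hk, rfl⟩
      obtain ⟨k', hk', e4⟩ := hxe
      by_cases hk0 : k = 0
      · exact hx (by rw [hk0, zero_mulVec])
      obtain ⟨k'', hk'', hkk⟩ := hQ.field.inv k hk hk0
      refine hb ⟨k'' * k', K.mul_mem hk'' hk', ?_⟩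
      rw [← mulVec_mulVec, ← e4, mulVec_mulVec, ← hQ.field.comm k hk k'' hk'', hkk, one_mulVec]
    rw [e3, h12, hsame hb0 hxb hk₂ hk₃ e2 e3]
  · rw [e3, hsame he₀ hxe hk₁ hk₃ e1 e3]

/-- The normaliser of a self-adjoint quadratic field is maximal. -/
theorem isMaximalIn_field (h2 : (2 : F) = 0) (h4 : 4 ≤ Fintype.card F) {K : Subalgebra F Mat}
    (hK : IsFieldSubalgebra 2 K) (hsa : IsSelfAdjointFor (Cfsg.sympForm 2 F) K)
    (halt : ∀ k ∈ K, ∀ v : V, ω (k *ᵥ v) v = 0) :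
    IsMaximalIn (Cfsg.spGL 2 F) (subalgebraNormalizer K ⊓ Cfsg.spGL 2 F) := by
  classical
  obtain ⟨κ, τ, ν, hQ⟩ := exists_quad hK hsa halt
  obtain ⟨g₀, hg₀, hg₀N⟩ := ExtField.exists_spTv_not_normalizing (le_refl 2) (le_refl 2) hK
  refine isMaximalIn_of inf_le_right ⟨g₀, hg₀, fun h => hg₀N h.1⟩ fun M hHM hMK g hg hg' => ?_
  obtain ⟨v, hv, x, hxM, hxv, hxline⟩ : ∃ v : V, v ≠ 0 ∧ ∃ x ∈ M, (x : Mat) *ᵥ v = v ∧
      ¬ InLine K v ((x : Mat) *ᵥ (κ *ᵥ v)) := by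
    by_contra hcon
    push Not at hcon
    refine hg' ⟨ExtField.mem_normalizer_of_conj_mem fun k hk => hQ.mem_of_lines fun w hw => ?_, hMK hg⟩
    set v := ((g⁻¹ : G) : Mat) *ᵥ w with hvdef
    have hgv : (g : Mat) *ᵥ v = w := by rw [hvdef, mulVec_mulVec, Units.mul_inv, one_mulVec]
    have hv : v ≠ 0 := fun e => hw (by rw [← hgv, e, mulVec_zero])
    have hy : InLine K w ((g : Mat) *ᵥ (κ *ᵥ v)) := by
      by_contra hy
      obtain ⟨u, hu, hu0, -, hu2, -⟩ := hQ.exists_root h2 hw hy hQ.mem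
      set z := g⁻¹ * u * g with hz
      have hzM : z ∈ M := mul_mem (mul_mem (inv_mem hg) (hHM hu)) hg
      have hzv : (z : Mat) *ᵥ v = v := by
        rw [hz, Units.val_mul, Units.val_mul, ← mulVec_mulVec, ← mulVec_mulVec, hgv, hu0]
      obtain ⟨k', hk', e1⟩ := hcon v hv z hzM hzv
      obtain ⟨p, q, rfl⟩ := hQ.gen k' hk'
      have e2 := congrArg ((g : Mat) *ᵥ ·) e1
      simp only [hz, Units.val_mul, ← mulVec_mulVec, add_mulVec, smul_mulVec, one_mulVec, mulVec_add,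
        mulVec_smul, hgv, hu2] at e2
      simp only [mulVec_mulVec _ (g : Mat) ((g⁻¹ : G) : Mat), Units.mul_inv, one_mulVec] at e2
      rcases eq_or_ne q 1 with rfl | hq
      · rw [one_smul, add_comm (p • w)] at e2
        have e3 := hQ.pq_zero hw (p := -p) (q := 1) (by
          linear_combination (norm := module) e2)
        exact one_ne_zero e3.2
      · refine hy ⟨(q - 1)⁻¹ • ((-p) • 1 + (1 : F) • κ), K.smul_mem (hQ.smul_mem _ _) _, ?_⟩
        rw [smul_mulVec, add_mulVec, smul_mulVec, smul_mulVec, one_mulVec, one_smul,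
          eq_inv_smul_iff₀ (sub_ne_zero.2 hq), sub_smul, one_smul, neg_smul, sub_eq_iff_eq_add]
        linear_combination (norm := module) -e2
    obtain ⟨k', hk', e1⟩ := hy
    obtain ⟨p, q, rfl⟩ := hQ.gen k hk
    refine ⟨p • 1 + q • k', K.add_mem (K.smul_mem K.one_mem _) (K.smul_mem hk' _), ?_⟩
    rw [← mulVec_mulVec, ← mulVec_mulVec, ← hvdef, add_mulVec, smul_mulVec, smul_mulVec, one_mulVec,
      mulVec_add, mulVec_smul, mulVec_smul, hgv, e1, add_mulVec, smul_mulVec, smul_mulVec, one_mulVec]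
  set a := κ *ᵥ v with ha
  set b := (x : Mat) *ᵥ a with hbdef
  have hxs := mem_of_mulVec_eq (hMK hxM)
  have hva : ω v a = 0 := by rw [sy h2 a v]; exact halt κ hQ.mem v
  have hvb : ω v b = 0 := by rw [hbdef, ← hxv, hxs, hva]
  have hkb : ω (κ *ᵥ b) v = ω a b := by rw [hsa κ hQ.mem, ← ha, sy h2 a b]
  have hkba : ω (κ *ᵥ b) a = τ * ω a b := by
    rw [hsa κ hQ.mem, ha, mulVec_mulVec, hQ.rel, add_mulVec, smul_mulVec, smul_mulVec, one_mulVec, ← ha,
      add_r, smul_r, smul_r, sy h2 a b, sy h2 v b, hvb, mul_zero, add_zero]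
  set δ := ω a b with hδdef
  have hδ : δ ≠ 0 := by
    intro h0
    refine hv ?_
    by_contra hne
    obtain ⟨y, hy⟩ := (isSymplecticForm_sympForm.nondegenerate v hne).2
    refine hy ?_
    have hsp : y ∈ Submodule.span F (Set.range ![v, a, b, κ *ᵥ b]) := by
      rw [(hQ.indep hv hxline).span_eq_top_of_card_eq_finrank (by simp)]
      trivial
    obtain ⟨c, rfl⟩ := (Submodule.mem_span_range_iff_exists_fun F).1 hsp
    simp [Fin.sum_univ_four, add_r, smul_r, self, hva, hvb, sy h2 (κ *ᵥ b) v, hkb, h0]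
  have hU : ∀ s : F, ∃ u ∈ M, u ∈ Cfsg.spGL 2 F ∧ (u : Mat) *ᵥ v = v ∧ (u : Mat) *ᵥ a = a ∧
      (u : Mat) *ᵥ b = b + s • a := fun s => by
    obtain ⟨u, hu, h0, h1, h3, -⟩ := hQ.exists_root h2 hv hxline (K.smul_mem hQ.mem s)
    exact ⟨u, hHM hu, hu.2, h0, h1, by rw [h3, smul_mulVec]⟩
  have hY : ∀ s : F, ∃ u ∈ M, (u : Mat) *ᵥ v = v ∧ ∃ μ : F, (u : Mat) *ᵥ a = a + s • b + μ • v := by
    set c := ((x⁻¹ : G) : Mat) *ᵥ a with hc
    have hxc : (x : Mat) *ᵥ c = a := by rw [hc, mulVec_mulVec, Units.mul_inv, one_mulVec]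
    obtain ⟨w, hw⟩ := (Submodule.mem_span_range_iff_exists_fun F).1
      (show c ∈ Submodule.span F (Set.range ![v, a, b, κ *ᵥ b]) by
        rw [(hQ.indep hv hxline).span_eq_top_of_card_eq_finrank (by simp)]
        trivial)
    simp only [Fin.sum_univ_four, Matrix.cons_val_zero, Matrix.cons_val_one, Matrix.cons_val] at hw
    have hw3 : w 3 = 0 := by
      have h0 : ω v c = 0 := by rw [← hxs, hxv, hxc, hva]
      rw [← hw] at h0
      simpa [add_r, smul_r, self, hva, hvb, sy h2 (κ *ᵥ b) v, hkb, hδ] using h0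
    have hw2 : w 2 ≠ 0 := fun h0 => hδ (by
      rw [hw3, h0, zero_smul, zero_smul, add_zero, add_zero] at hw
      rw [hδdef, ← hxc, ← hw, mulVec_add, mulVec_smul, mulVec_smul, hxv, ← hbdef, add_l, smul_l, smul_l,
        hvb, self]
      ring)
    intro s
    obtain ⟨u, huM, -, hu0, hu1, hu2⟩ := hU (s / w 2)
    refine ⟨x * u * x⁻¹, mul_mem (mul_mem hxM huM) (inv_mem hxM), ?_, 0, ?_⟩
    · rw [Units.val_mul, Units.val_mul, ← mulVec_mulVec, ← mulVec_mulVec]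
      rw [show ((x⁻¹ : G) : Mat) *ᵥ v = v by
        conv_lhs => rw [← hxv]
        rw [mulVec_mulVec, Units.inv_mul, one_mulVec], hu0, hxv]
    · rw [Units.val_mul, Units.val_mul, ← mulVec_mulVec, ← mulVec_mulVec, ← hc, zero_smul, add_zero]
      have e : (u : Mat) *ᵥ c = c + s • a := by
        rw [← hw, hw3, zero_smul, add_zero, mulVec_add, mulVec_add, mulVec_smul, mulVec_smul, mulVec_smul,
          hu0, hu1, hu2, smul_add, smul_smul, mul_div_cancel₀ _ hw2]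
        abel
      rw [e, mulVec_add, mulVec_smul, hxc, ← hbdef]
  obtain ⟨q₀, hq₀, hq0, hq1, hq2, hq3⟩ := hQ.exists_root h2 hv hxline K.one_mem
  have hvδa : ω v (δ⁻¹ • a) = 0 := by rw [smul_r, hva, mul_zero]
  have hq : qElt v (δ⁻¹ • a) (τ / δ) ∈ M := by
    convert hHM hq₀ using 1
    refine Units.ext (hQ.eq_of_four hv hxline ?_ ?_ ?_ ?_) <;> rw [qElt_mulVec h2 hvδa]
    · simp [hq0, self, hvδa]
    · rw [hq1, ← ha]; simp [sy h2 v a, hva, smul_r, self]
    · rw [hq2, one_mulVec, sy h2 v b, hvb, smul_r, sy h2 a b, ← hδdef, inv_mul_cancel₀ hδ, zero_smul,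
        mul_zero, add_zero, add_zero, one_smul]
    · rw [hq3, one_mulVec, hkb, smul_r, hkba, smul_smul, mul_inv_cancel₀ hδ, one_smul, ← ha,
        show δ⁻¹ * (τ * δ) + τ / δ * δ = 0 by field_simp; linear_combination τ * h2, zero_smul, add_zero]
  have hD : ∀ σ : F, qElt v (σ • b) σ ∈ M := fun σ => by
    obtain ⟨y, hyM, hyv, μ, hya⟩ := hY (σ * δ)
    have h := qElt_conj_mem h2 hvδa (hMK hyM) hyM hyv hq
    have e1 : (y : Mat) *ᵥ (δ⁻¹ • a) + δ⁻¹ • a = σ • b + (δ⁻¹ * μ) • v := by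
      rw [mulVec_smul, hya, smul_add, smul_add, smul_smul, smul_smul,
        show δ⁻¹ * (σ * δ) = σ by field_simp]
      linear_combination (norm := module) add_self h2 (δ⁻¹ • a)
    rw [e1, qElt_shift h2 (by rw [smul_r, hvb, mul_zero]), mulVec_smul, hya] at h
    convert h using 2
    simp only [smul_l, smul_r, add_l, self, hva, sy h2 a b, ← hδdef]
    field_simp
    ring
  have hA : ∀ ρ σ : F, σ ≠ 0 → qElt v (ρ • a) (ρ * σ * δ) ∈ M := fun ρ σ hσ => by
    obtain ⟨u, huM, huS, huv, -, hub⟩ := hU (ρ / σ)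
    have h := qElt_conj_mem h2 (by rw [smul_r, hvb, mul_zero]) huS huM huv (hD σ)
    rw [mulVec_smul, hub, smul_add, smul_smul, mul_div_cancel₀ _ hσ] at h
    convert h using 2
    · linear_combination (norm := module) -add_self h2 (σ • b)
    · simp only [add_l, smul_l, smul_r, self, ← hδdef]
      ring
  obtain ⟨γ, hγ0, hγ1⟩ : ∃ γ : F, γ ≠ 0 ∧ γ ≠ 1 := by
    by_contra hcon
    push Not at hcon
    have h1 : (Finset.univ : Finset F) ⊆ {0, 1} := fun y _ => by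
      rcases eq_or_ne y 0 with rfl | hy
      · simp
      · simp [hcon y hy]
    have h3 := Finset.card_le_card h1
    rw [Finset.card_univ] at h3
    have h5 : ({0, 1} : Finset F).card ≤ 2 := Finset.card_le_two
    omega
  have hv' : CentreIn M v := fun c => by
    have hγ' : 1 + γ ≠ 0 := fun e => hγ1 (by linear_combination e - h2)
    have h := spTv_mem_of_qElt h2 (e := v) (a := (c / ((1 + γ) * δ)) • a) (by rw [smul_r, hva, mul_zero])
      (hA _ 1 one_ne_zero) (hA _ γ hγ0)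
    rwa [show c / ((1 + γ) * δ) * 1 * δ + c / ((1 + γ) * δ) * γ * δ = c by field_simp] at h
  have hstep : ∀ {p r : V}, p ≠ 0 → ¬ InLine K p r → CentreIn M p → CentreIn M r := fun {p r} hp hpr hP => by
    have hpu : ¬ InLine K (p + r) p := by
      rintro ⟨k, hk, e⟩
      by_cases hk0 : k = 0
      · exact hp (by rw [e, hk0, zero_mulVec])
      obtain ⟨k', hk', hkk⟩ := hK.inv k hk hk0
      refine hpr ⟨k' - 1, K.sub_mem hk' K.one_mem, ?_⟩
      have e' := congrArg (k' *ᵥ ·) e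
      simp only [mulVec_mulVec, ← hK.comm k hk k' hk', hkk, one_mulVec] at e'
      rw [sub_mulVec, one_mulVec, e', add_sub_cancel_left]
    have hu : p + r ≠ 0 := fun e => hpr ⟨-1, K.neg_mem K.one_mem, by
      rw [neg_mulVec, one_mulVec]; exact eq_neg_of_add_eq_zero_right e⟩
    obtain ⟨u, hu', -, -, hu2, -⟩ := hQ.exists_root h2 hu hpu K.one_mem
    have h := hP.map hu'.2 (hHM hu')
    rwa [hu2, one_mulVec, ← add_assoc, add_self h2, zero_add] at h
  have hb0 : b ≠ 0 := fun e => hxline ⟨0, K.zero_mem, by rw [e, zero_mulVec]⟩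
  refine top_of_centreIn fun w hw => ?_
  by_cases hwv : InLine K v w
  · refine hstep hb0 ?_ (hstep hv hxline hv')
    rintro ⟨k, hk, rfl⟩
    obtain ⟨k', hk', e⟩ := hwv
    by_cases hk0 : k = 0
    · exact hw (by rw [hk0, zero_mulVec])
    obtain ⟨k'', hk'', hkk⟩ := hK.inv k hk hk0
    refine hxline ⟨k'' * k', K.mul_mem hk'' hk', ?_⟩
    rw [← mulVec_mulVec, ← e, mulVec_mulVec, ← hK.comm k hk k'' hk'', hkk, one_mulVec]
  · exact hstep hv hwv hv'

end CfsgLib.SpFourEven
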