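import Cfsg.Agent.SpFourEven.Basic

/-!
# Orthogonal groups are maximal in the four-dimensional symplectic groups of characteristic two
-/

set_option autoImplicit false
set_option linter.unusedSectionVars false

namespace CfsgLib.SpFourEven

open Matrix Cfsg.Geo CfsgLib.MaxSub

variable {F : Type*} [Field F] [Fintype F]

local notation "V" => (Fin 2 ⊕ Fin 2 → F)
local notation "ω" => Cfsg.sympForm 2 F
local notation "Mat" => Matrix (Fin 2 ⊕ Fin 2) (Fin 2 ⊕ Fin 2) F
local notation "G" => GL (Fin 2 ⊕ Fin 2) F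

/-- A vector with two given pairings against two independent vectors. -/
theorem exists_pairing {u p : V} (hu : u ≠ 0) (hp : ∀ r : F, p ≠ r • u) (c d : F) :
    ∃ x : V, ω x u = c ∧ ω x p = d := by
  let Λ : V →ₗ[F] F × F :=
    { toFun := fun x => (ω x u, ω x p)
      map_add' := fun x y => by simp [add_l]
      map_smul' := fun r x => by simp [smul_l] }
  have hli : ∀ r s : F, r • u + s • p = 0 → r = 0 ∧ s = 0 := fun r s h => by
    rcases eq_or_ne s 0 with rfl | hs
    · rw [zero_smul, add_zero] at h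
      exact ⟨(smul_eq_zero.1 h).resolve_right hu, rfl⟩
    · exfalso
      refine hp (-(s⁻¹ * r)) ?_
      have h1 := congrArg (fun z => s⁻¹ • z) h
      simp only [smul_add, smul_smul, inv_mul_cancel₀ hs, one_smul, smul_zero] at h1
      rw [neg_smul]
      exact eq_neg_of_add_eq_zero_right h1
  have hsurj : Function.Surjective Λ := by
    rw [← LinearMap.range_eq_top]
    by_contra hne
    obtain ⟨φ, hφ0, hφ⟩ := Submodule.exists_dual_map_eq_bot_of_lt_top (lt_top_iff_ne_top.2 hne)
      inferInstance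
    have hz : ∀ x, φ (Λ x) = 0 := fun x => by
      have : φ (Λ x) ∈ (LinearMap.range Λ).map φ := ⟨_, ⟨x, rfl⟩, rfl⟩
      rwa [hφ, Submodule.mem_bot] at this
    have hφe : ∀ a b : F, φ (a, b) = a * φ (1, 0) + b * φ (0, 1) := fun a b => by
      rw [← smul_eq_mul, ← smul_eq_mul, ← map_smul, ← map_smul, ← map_add]
      simp
    have hall : φ (1, 0) • u + φ (0, 1) • p = 0 := by
      by_contra hne'
      obtain ⟨x, hx⟩ := (isSymplecticForm_sympForm.nondegenerate _ hne').1
      refine hx ?_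
      rw [add_r, smul_r, smul_r]
      have h1 := hz x
      rw [show Λ x = (ω x u, ω x p) from rfl, hφe] at h1
      linear_combination h1
    obtain ⟨h1, h3⟩ := hli _ _ hall
    exact hφ0 (LinearMap.ext fun ⟨a, b⟩ => by rw [hφe, h1, h3]; simp)
  obtain ⟨x, hx⟩ := hsurj (c, d)
  exact ⟨x, congrArg Prod.fst hx, congrArg Prod.snd hx⟩

/-- The isometry group of a quadratic form polarising to the symplectic form is maximal. -/
theorem isMaximalIn_orthogonal (heven : ¬ Odd (Fintype.card F)) (h4 : 4 ≤ Fintype.card F) (Q : V → F)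
    (hQ : IsNondegenerateQuadraticForm Q) (hpol : ∀ u v, QuadraticMap.polar Q u v = ω u v) :
    IsMaximalIn (Cfsg.spGL 2 F) (quadSimilarityGroup Q ⊓ Cfsg.spGL 2 F) := by
  classical
  have hs := sesq_sympForm (m := 2) (F := F)
  have h2 := two_eq_zero_of_even heven
  have hsq := exists_sq_eq_of_even heven
  have hadd : ∀ x y : V, Q (x + y) = Q x + Q y + ω x y := fun x y => by
    rw [quad_add (Q := Q), hpol]
  have hT : ∀ (v : V) (x : V),
      Q ((spTv v 1 : Mat) *ᵥ x) = Q x + ω x v ^ 2 * (Q v + 1) := by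
    intro v x
    rw [spTv_mulVec, one_mul, hadd, hQ.smul, smul_r]
    ring
  have hTH : ∀ v : V, Q v = 1 → spTv v 1 ∈ quadSimilarityGroup Q ⊓ Cfsg.spGL 2 F := fun v hv =>
    ⟨⟨1, fun x => by
      rw [hT, hv, one_add_one_eq_two, h2, mul_zero, add_zero, Units.val_one, one_mul]⟩,
      spTv_mem v 1⟩
  obtain ⟨t₁, ht₁⟩ : ∃ t : V, Q t = 1 := by
    obtain ⟨t, -, hQt⟩ := exists_nonsingular hQ (⊤ : Submodule F V)
      (by rw [finrank_top, Module.finrank_fintype_fun_eq_card]; simp)
    obtain ⟨c, hc⟩ := hsq (1 / Q t)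
    exact ⟨c • t, by rw [hQ.smul, sq, hc, div_mul_cancel₀ _ hQt]⟩
  have ht₁0 : t₁ ≠ 0 := fun h => by
    rw [h, quad_zero hQ] at ht₁; exact zero_ne_one ht₁
  refine isMaximalIn_of inf_le_right ?_ fun M hHM hMK g hg hg' => ?_
  · -- a transvection with singular non-zero centre is not an isometry
    obtain ⟨x, hx, hxt⟩ : ∃ x : V, ω x t₁ = 0 ∧ ∀ r : F, x ≠ r • t₁ := by
      obtain ⟨w, hw⟩ := (isSymplecticForm_sympForm.nondegenerate t₁ ht₁0).2
      by_contra hcon
      push Not at hcon
      -- then every vector lies in the plane of `t₁` and `w`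
      have hall : ∀ y : V, y ∈ Submodule.span F ({t₁, w} : Set V) := fun y => by
        have hwt : ω w t₁ ≠ 0 := by rwa [sy h2 t₁ w]
        obtain ⟨r, hr⟩ := hcon (y + (ω y t₁ / ω w t₁) • w) (by
          rw [add_l, smul_l, div_mul_cancel₀ _ hwt, ← two_mul, h2, zero_mul])
        rw [show y = r • t₁ + (-(ω y t₁ / ω w t₁)) • w by rw [← hr, neg_smul, add_neg_cancel_right]]
        exact Submodule.add_mem _ (Submodule.smul_mem _ _ (Submodule.subset_span (Set.mem_insert _ _)))
          (Submodule.smul_mem _ _ (Submodule.subset_span (Set.mem_insert_of_mem _ rfl)))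
      have h1 := Submodule.finrank_mono (show (⊤ : Submodule F V) ≤ Submodule.span F ({t₁, w} : Set V) from
        fun y _ => hall y)
      have h5 : Module.finrank F (Submodule.span F ({t₁, w} : Set V)) ≤ 2 := by
        refine (finrank_span_le_card _).trans ?_
        rw [Set.toFinset_insert, Set.toFinset_singleton]
        exact Finset.card_le_two
      rw [finrank_top, Module.finrank_fintype_fun_eq_card] at h1
      simp at h1
      omega
    obtain ⟨s, hs'⟩ := hsq (Q x)
    have hv : Q (x + s • t₁) = 0 := by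
      rw [hadd, hQ.smul, ht₁, smul_r, hx, mul_zero, mul_one, add_zero, ← hs', sq]
      linear_combination (s * s) * h2
    have hv0 : x + s • t₁ ≠ 0 := fun e => hxt (-s) (by rw [neg_smul]; exact eq_neg_of_add_eq_zero_left e)
    refine ⟨spTv (x + s • t₁) 1, spTv_mem _ _, fun h => ?_⟩
    obtain ⟨c, hc⟩ := h.1
    have e1 : Q ((spTv (x + s • t₁) 1 : Mat) *ᵥ t₁) = c * Q t₁ := hc t₁
    rw [hT, hv, add_r, smul_r, self, sy h2 x t₁, hx, mul_zero, add_zero, ht₁] at e1
    have hc1 : (c : F) = 1 := by simpa using e1.symm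
    obtain ⟨z, hz⟩ := (isSymplecticForm_sympForm.nondegenerate _ hv0).1
    have e2 : Q ((spTv (x + s • t₁) 1 : Mat) *ᵥ z) = c * Q z := hc z
    rw [hT, hv, hc1, one_mul, zero_add, mul_one] at e2
    exact hz (pow_eq_zero_iff two_ne_zero |>.1 (by linear_combination e2))
  have hgs : g ∈ Cfsg.spGL 2 F := hMK hg
  let P : V → Prop := fun u => spTv u 1 ∈ M
  have hP1 : ∀ u, Q u = 1 → P u := fun u hu => hHM (hTH u hu)
  have hmove : ∀ u w, P u → P w → P (u + ω u w • w) := by
    intro u w hu hw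
    have h := M.mul_mem (M.mul_mem hw hu) (M.inv_mem hw)
    rw [conj_spTv (spTv_mem w 1), spTv_mulVec, one_mul] at h
    exact h
  -- a centre with a new value of `Q`
  obtain ⟨u, hu0, hu1, huP⟩ : ∃ u : V, u ≠ 0 ∧ Q u ≠ 1 ∧ P u := by
    by_contra hcon
    push Not at hcon
    refine hg' ⟨⟨1, ?_⟩, hgs⟩
    have hlev : ∀ v, Q v = 1 → Q ((g : Mat) *ᵥ v) = 1 := by
      intro v hv
      by_contra h
      have hv0 : v ≠ 0 := fun e => by rw [e, quad_zero hQ] at hv; exact zero_ne_one hv
      refine hcon _ (fun e => hv0 (mulVec_eq_zero e)) h ?_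
      show spTv _ 1 ∈ M
      rw [← conj_spTv hgs]
      exact M.mul_mem (M.mul_mem hg (hP1 v hv)) (M.inv_mem hg)
    intro v
    rw [Units.val_one, one_mul]
    obtain ⟨s, hs'⟩ := hsq (Q v)
    rcases eq_or_ne s 0 with rfl | hs0
    · rw [mul_zero] at hs'
      by_contra hne
      obtain ⟨r, hr⟩ := hsq (Q ((g : Mat) *ᵥ v))
      have hr0 : r ≠ 0 := by rintro rfl; rw [mul_zero] at hr; exact hne (by rw [← hr, hs'])
      have hinj : Function.Injective fun x : {x : V // Q x = 1} =>
          (⟨(g : Mat) *ᵥ x.1, hlev x.1 x.2⟩ : {x : V // Q x = 1}) := fun x y hxy =>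
        Subtype.ext (mulVec_injective_iff_isUnit.mpr g.isUnit (congrArg Subtype.val hxy))
      obtain ⟨⟨u', hu'⟩, hue⟩ := (Finite.injective_iff_surjective.mp hinj)
        ⟨r⁻¹ • ((g : Mat) *ᵥ v), by
          rw [hQ.smul, ← hr]; field_simp⟩
      have hue' : (g : Mat) *ᵥ u' = (g : Mat) *ᵥ (r⁻¹ • v) := by
        rw [mulVec_smul]; exact congrArg Subtype.val hue
      rw [mulVec_injective_iff_isUnit.mpr g.isUnit hue', hQ.smul, ← hs', mul_zero] at hu'
      exact zero_ne_one hu'
    · have := hlev (s⁻¹ • v) (by rw [hQ.smul, ← hs']; field_simp)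
      rw [mulVec_smul, hQ.smul] at this
      field_simp at this
      rw [this, ← hs']
      ring
  set a := Q u with ha
  -- transitivity on the vectors of value `a`
  have hstep : ∀ p p', Q p = a → Q p' = a → ω p p' ≠ 0 → P p → P p' := by
    intro p p' hp hp' hne hPp
    obtain ⟨s, hs'⟩ := hsq (ω p p')
    have hs0 : s ≠ 0 := by rintro rfl; rw [mul_zero] at hs'; exact hne hs'.symm
    have hw : Q (s⁻¹ • (p + p')) = 1 := by
      rw [hQ.smul, hadd, hp, hp', ← two_mul a, h2, zero_mul, zero_add, ← hs']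
      field_simp
    have h := hmove p _ hPp (hP1 _ hw)
    have e : p + ω p (s⁻¹ • (p + p')) • s⁻¹ • (p + p') = p' := by
      rw [smul_r, add_r, self, zero_add, smul_smul,
        show s⁻¹ * ω p p' * s⁻¹ = 1 by rw [← hs']; field_simp, one_smul, ← add_assoc, add_self h2, zero_add]
    rwa [e] at h
  have htrans : ∀ p', p' ≠ 0 → Q p' = a → P p' := by
    intro p' hp'0 hp'
    by_cases hneu : p' = u
    · rw [hneu]; exact huP
    by_cases hup : ω u p' = 0
    swap
    · exact hstep u p' rfl hp' hup huP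
    obtain ⟨z, hzu, hzp, hzQ⟩ : ∃ z : V, ω u z ≠ 0 ∧ ω z p' ≠ 0 ∧ Q z = a := by
      rcases eq_or_ne a 0 with ha0 | ha0
      · obtain ⟨z₀, -, h1, h3⟩ := exists_nonorth_two (U := ⊤)
          (fun w _ h0 => by
            obtain ⟨x, hx⟩ := (isSymplecticForm_sympForm.nondegenerate w h0).2
            exact ⟨x, trivial, hx⟩) (Submodule.mem_top (x := u)) (Submodule.mem_top (x := p')) hu0 hp'0
        refine ⟨z₀ + (Q z₀ / ω z₀ u) • u, ?_, ?_, ?_⟩
        · rwa [add_r, smul_r, self, mul_zero, add_zero]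
        · rwa [add_l, smul_l, hup, mul_zero, add_zero]
        · have h1' : ω z₀ u ≠ 0 := by rwa [sy h2 u z₀]
          rw [hadd, hQ.smul, ← ha, ha0, smul_r, mul_zero, add_zero, div_mul_cancel₀ _ h1']
          linear_combination (Q z₀) * h2
      · have hne := hneu
        have hind : ∀ r : F, p' ≠ r • u := fun r e => by
          have h1 : r ^ 2 * a = a := by rw [ha, ← hQ.smul, ← e, hp']
          have h3 : (r - 1) * (r - 1) = 0 := by
            have h4 : r ^ 2 = 1 := mul_right_cancel₀ ha0 (by rw [h1, one_mul])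
            linear_combination h4 + (1 - r) * h2
          rw [e, sub_eq_zero.1 (mul_self_eq_zero.1 h3), one_smul] at hne
          exact hne rfl
        obtain ⟨γ, hγ0, hγ1⟩ : ∃ γ : F, γ ≠ 0 ∧ γ ≠ 1 := by
          by_contra hcon
          push Not at hcon
          have h1 : (Finset.univ : Finset F) ⊆ {0, 1} := fun x _ => by
            rcases eq_or_ne x 0 with rfl | hx
            · simp
            · simp [hcon x hx]
          have h3 := Finset.card_le_card h1
          rw [Finset.card_univ] at h3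
          have h5 : ({0, 1} : Finset F).card ≤ 2 := Finset.card_le_two
          omega
        obtain ⟨z₀, hz1, hz2⟩ := exists_pairing hu0 hind 1 γ
        obtain ⟨s, hs'⟩ := hsq ((Q z₀ + a) / ((γ + 1) ^ 2 * a))
        have hγ' : γ + 1 ≠ 0 := fun e => hγ1 (by linear_combination e - h2)
        refine ⟨z₀ + (s * γ) • u + s • p', ?_, ?_, ?_⟩
        · rw [add_r, add_r, smul_r, smul_r, self, hup, sy h2 z₀ u, hz1]
          simp
        · rw [add_l, add_l, smul_l, smul_l, self, hup, hz2]
          simpa using hγ0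
        · rw [hadd, hadd, hQ.smul, hQ.smul, hp', ← ha, smul_r, smul_r, add_l, smul_l, hz1, hz2, hup]
          rw [eq_div_iff (mul_ne_zero (pow_ne_zero 2 hγ') ha0)] at hs'
          linear_combination hs' + (s * γ + Q z₀ - s * s * γ * a) * h2
    exact hstep _ p' hzQ hp' hzp (hstep u _ rfl hzQ hzu huP)
  refine spGL_le_of_forall_spTv fun v c => ?_
  obtain ⟨r, hr⟩ := hsq c
  rw [← spTv_one_smul v hr]
  show P (r • v)
  generalize r • v = v
  rcases eq_or_ne v 0 with rfl | hv0
  · exact centreIn_zero M 1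
  by_cases hb : Q v = a
  · exact htrans v hv0 hb
  have h1a : 1 + a ≠ 0 := fun e => hu1 (by linear_combination e - h2)
  obtain ⟨s, hs'⟩ := hsq ((Q v + a) / (1 + a))
  have hs0 : s ≠ 0 := by
    rintro rfl
    rw [mul_zero, eq_comm, div_eq_zero_iff] at hs'
    exact hb (by linear_combination hs'.resolve_right h1a - a * h2)
  obtain ⟨w, hw⟩ := (isSymplecticForm_sympForm.nondegenerate v hv0).2
  set w₀ := (s / ω v w) • w with hw₀
  have hvw : ω v w₀ = s := by
    rw [hw₀, smul_r]; exact div_mul_cancel₀ _ hw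
  clear_value w₀
  obtain ⟨t, t1, t2, htQ⟩ : ∃ t : V, ω t v = 0 ∧ ω t w₀ = 0 ∧ Q t = a + Q w₀ := by
    -- the plane orthogonal to `v` and `w₀` is not totally singular
    suffices h : ∃ t : V, ω t v = 0 ∧ ω t w₀ = 0 ∧ Q t ≠ 0 by
      obtain ⟨t, t1, t2, t3⟩ := h
      obtain ⟨k, hk⟩ := hsq ((a + Q w₀) / Q t)
      exact ⟨k • t, by rw [smul_l, t1, mul_zero], by rw [smul_l, t2, mul_zero],
        by rw [hQ.smul, sq, hk, div_mul_cancel₀ _ t3]⟩
    let pr : V → V := fun x => x + (ω x w₀ / s) • v + (ω x v / s) • w₀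
    have hp1 : ∀ x, ω (pr x) v = 0 := fun x => by
      simp only [pr, add_l, smul_l, self, sy h2 v w₀, hvw, mul_zero, add_zero, div_mul_cancel₀ _ hs0]
      linear_combination (ω x v) * h2
    have hp2 : ∀ x, ω (pr x) w₀ = 0 := fun x => by
      simp only [pr, add_l, smul_l, self, hvw, mul_zero, add_zero, div_mul_cancel₀ _ hs0]
      linear_combination (ω x w₀) * h2
    obtain ⟨k, hk, hk0⟩ := (Submodule.ne_bot_iff _).1 (show (dotsKer fun i => leftVec ω (![v, w₀] i)) ≠ ⊥ from
      fun hbot => by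
        have h1 := finrank_dotsKer fun i => leftVec ω (![v, w₀] i)
        rw [hbot, finrank_bot] at h1
        simp at h1)
    have hk1 : ω k v = 0 := (hs.dot_leftVec v k).symm.trans ((mem_dotsKer.mp hk) 0)
    have hk2 : ω k w₀ = 0 := (hs.dot_leftVec w₀ k).symm.trans ((mem_dotsKer.mp hk) 1)
    obtain ⟨y, hy⟩ := (isSymplecticForm_sympForm.nondegenerate k hk0).2
    have hky : ω k (pr y) ≠ 0 := by
      simp only [pr, add_r, smul_r, hk1, hk2, mul_zero, add_zero]
      exact hy
    by_cases hQk : Q k = 0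
    swap
    · exact ⟨k, hk1, hk2, hQk⟩
    by_cases hQy : Q (pr y) = 0
    swap
    · exact ⟨pr y, hp1 y, hp2 y, hQy⟩
    refine ⟨k + pr y, by rw [add_l, hk1, hp1, add_zero], by rw [add_l, hk2, hp2, add_zero], ?_⟩
    rw [hadd, hQk, hQy, zero_add, zero_add]
    exact hky
  set u₂ := w₀ + t with hu2
  have hu2Q : Q u₂ = a := by
    rw [hu2, hadd, htQ, sy h2 t w₀, t2]
    linear_combination Q w₀ * h2
  have hvu2 : ω v u₂ = s := by
    rw [hu2, add_r, hvw, sy h2 t v, t1, add_zero]
  clear_value u₂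
  have hu20 : u₂ ≠ 0 := fun e => hs0 (by rw [← hvu2, e, hs.zero_right])
  have hu1Q : Q (v + s • u₂) = a := by
    rw [hadd, hQ.smul, hu2Q, smul_r, hvu2]
    rw [eq_div_iff h1a] at hs'
    linear_combination hs' + Q v * h2
  have hu10 : v + s • u₂ ≠ 0 := fun e => by
    have := congrArg (fun y => ω y u₂) e
    simp only [hs.zero_left, add_l, smul_l, hvu2, self] at this
    exact hs0 (by simpa using this)
  have h := hmove _ _ (htrans _ hu10 hu1Q) (htrans _ hu20 hu2Q)
  rw [add_l, smul_l, hvu2, self, mul_zero, add_zero, add_assoc, add_self h2, add_zero] at h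
  exact h

end CfsgLib.SpFourEven
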