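import Cfsg.Agent.SpFourEven.SubfieldMain

/-!
# Maximality of subfield groups in four-dimensional symplectic groups of characteristic two
-/

set_option autoImplicit false
set_option linter.unusedSectionVars false

namespace CfsgLib.SpFourEven

open Matrix Cfsg.Geo CfsgLib.MaxSub Module

variable {F : Type*} [Field F] [Fintype F]

local notation "V" => (Fin 2 ⊕ Fin 2 → F)
local notation "ω" => Cfsg.sympForm 2 F
local notation "Mat" => Matrix (Fin 2 ⊕ Fin 2) (Fin 2 ⊕ Fin 2) F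
local notation "G" => GL (Fin 2 ⊕ Fin 2) F

theorem mulVec_rat {F₀ : Subfield F} {A : Mat} (hA : RatMat F₀ A) {v : V} (hv : Rat F₀ v) :
    Rat F₀ (A *ᵥ v) := fun i => by
  rw [mulVec, dotProduct]
  exact Subfield.sum_mem _ fun j _ => F₀.mul_mem (hA i j) (hv j)

theorem rat_of_mem (h2 : (2 : F) = 0) {F₀ : Subfield F} {g : G} (hg : g ∈ Cfsg.spGL 2 F)
    (h : g ∈ subfieldSubgroup F₀ (1 : G)) {v : V} (hv : Rat F₀ v) : Rat F₀ ((g : Mat) *ᵥ v) := by
  obtain ⟨c, hc, hA⟩ := mem_subfieldSubgroup_one_iff.1 h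
  set e : V := Pi.single (Sum.inl 0) 1 with he
  obtain ⟨x, hx, hex⟩ := exists_rat_nonorth (F₀ := F₀) (e := e) (by simp [he])
  have h1 := (mulVec_rat hA (rat_single F₀ (Sum.inl 0))).form (mulVec_rat hA hx)
  rw [smul_mulVec, smul_mulVec, smul_l, smul_r, mem_of_mulVec_eq hg, ← mul_assoc] at h1
  have h3 := F₀.mul_mem h1 (F₀.inv_mem ((rat_single F₀ (Sum.inl 0)).form hx))
  rw [← he, mul_assoc, mul_inv_cancel₀ hex, mul_one, ← pow_two] at h3
  have h4 := (mulVec_rat hA hv).smul (F₀.inv_mem (mem_of_sq_mem h2 h3))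
  rwa [smul_mulVec, inv_smul_smul₀ hc] at h4

/-- The standard form of a rational structure. -/
theorem exists_standard (h2 : (2 : F) = 0) {F₀ : Subfield F} {P : G} {ζ : F} (hζ : ζ ≠ 0)
    (hP : IsFormRationalStructure (Cfsg.sympForm 2 F) F₀ ζ P) :
    ∃ P' ∈ Cfsg.spGL 2 F,
      ∀ x, x ∈ subfieldSubgroup F₀ P ↔ P'⁻¹ * x * P' ∈ subfieldSubgroup F₀ (1 : G) := by
  classical
  let up : (Fin 2 ⊕ Fin 2 → F₀) → V := fun u i => (u i : F)
  let β : (Fin 2 ⊕ Fin 2 → F₀) →ₗ[F₀] (Fin 2 ⊕ Fin 2 → F₀) →ₗ[F₀] F₀ :=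
    LinearMap.mk₂ F₀ (fun u v => ⟨ζ * ω ((P : Mat) *ᵥ up u) ((P : Mat) *ᵥ up v),
        hP _ _ (fun i => (u i).2) fun i => (v i).2⟩)
      (fun u u' v => Subtype.ext (by
        show ζ * ω _ _ = ζ * ω _ _ + ζ * ω _ _
        rw [show up (u + u') = up u + up u' from rfl, mulVec_add, add_l, mul_add]))
      (fun c u v => Subtype.ext (by
        show ζ * ω _ _ = (c : F) * (ζ * ω _ _)
        rw [show up (c • u) = (c : F) • up u from rfl, mulVec_smul, smul_l]
        ring))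
      (fun u v v' => Subtype.ext (by
        show ζ * ω _ _ = ζ * ω _ _ + ζ * ω _ _
        rw [show up (v + v') = up v + up v' from rfl, mulVec_add, add_r, mul_add]))
      (fun c u v => Subtype.ext (by
        show ζ * ω _ _ = (c : F) * (ζ * ω _ _)
        rw [show up (c • v) = (c : F) • up v from rfl, mulVec_smul, smul_r]
        ring))
  have hA : β.IsAlt := fun u => Subtype.ext (by
    show ζ * ω _ _ = 0
    rw [self, mul_zero])
  have hsep : ∀ u, (∀ v, β u v = 0) → u = 0 := fun u hu => by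
    have h0 : ∀ i, ω ((P : Mat) *ᵥ up u) ((P : Mat) *ᵥ Pi.single i 1) = 0 := fun i => by
      have e := congrArg Subtype.val (hu (Pi.single i 1))
      have e' : up (Pi.single i 1) = Pi.single i 1 := funext fun j => by
        rcases eq_or_ne j i with rfl | hj <;> simp [up, *]
      change ζ * ω _ ((P : Mat) *ᵥ up (Pi.single i 1)) = 0 at e
      rw [e'] at e
      exact (mul_eq_zero.1 e).resolve_left hζ
    have hz : (P : Mat) *ᵥ up u = 0 := by
      by_contra hne
      obtain ⟨y, hy⟩ := (isSymplecticForm_sympForm.nondegenerate _ hne).2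
      refine hy ?_
      rw [show y = (P : Mat) *ᵥ (((P⁻¹ : G) : Mat) *ᵥ y) by rw [mulVec_mulVec, Units.mul_inv, one_mulVec],
        ← Finset.univ_sum_single (((P⁻¹ : G) : Mat) *ᵥ y), Matrix.mulVec_sum, ← Forms.sympBilin_apply,
        map_sum]
      refine Finset.sum_eq_zero fun i _ => ?_
      rw [Forms.sympBilin_apply, show (Pi.single i ((((P⁻¹ : G) : Mat) *ᵥ y) i) : V) =
        (((P⁻¹ : G) : Mat) *ᵥ y) i • Pi.single i (1 : F) by rw [← Pi.single_smul, smul_eq_mul, mul_one],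
        mulVec_smul, smul_r, h0, mul_zero]
    funext i
    exact Subtype.ext (congrFun (mulVec_eq_zero hz) i)
  have hB : β.Nondegenerate := ⟨hsep, fun v hv => hsep v fun u => by rw [← hA.neg, hv, neg_zero]⟩
  obtain ⟨m, b, b1, b2, b3⟩ := Forms.exists_symplectic_basis_nondeg β hA hB
  obtain rfl : m = 2 := by
    have h := Module.finrank_eq_card_basis b
    simp at h
    omega
  obtain ⟨s, hs⟩ := exists_sq_eq_of_even (F := F) (fun ho => two_ne_zero_of_odd ho h2) ζ
  have hs0 : s ≠ 0 := fun e => hζ (by rw [← hs, e, zero_mul])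
  let Bm : Mat := Matrix.of fun i j => s * (b j i : F)
  have hcol : ∀ j, Bm *ᵥ Pi.single j 1 = s • up (b j) := fun j => by
    funext i
    simp [Bm, up]
  let T : V →ₗ[F] V := Matrix.toLin' ((P : Mat) * Bm)
  have hT : ∀ x y, ω (T x) (T y) = ω x y := by
    have e : (Forms.sympBilin 2 F).compl₁₂ T T = Forms.sympBilin 2 F := by
      refine LinearMap.ext_basis (Pi.basisFun F _) (Pi.basisFun F _) fun i j => ?_
      rw [LinearMap.compl₁₂_apply, Forms.sympBilin_apply, Forms.sympBilin_apply, Pi.basisFun_apply,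
        Pi.basisFun_apply]
      simp only [T, Matrix.toLin'_apply, ← mulVec_mulVec, hcol, mulVec_smul, smul_l, smul_r]
      rw [← mul_assoc, hs]
      show ((β (b i) (b j) : F₀) : F) = _
      have hba : ∀ i j, β (b j) (b i) = β (b i) (b j) := fun i j => by
        rw [← hA.neg (b i) (b j)]
        exact Subtype.ext (by
          show -((β (b i) (b j) : F₀) : F) = _
          linear_combination (-((β (b i) (b j) : F₀) : F)) * h2)
      have hneg : (-1 : F) = 1 := by linear_combination -h2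
      rcases i with i | i <;> rcases j with j | j
      · rw [b2]; simp [Cfsg.sympForm, Matrix.J]
      · rw [b1]; simp [Cfsg.sympForm, Matrix.J, Matrix.one_apply, apply_ite (Subtype.val : F₀ → F)]
        split_ifs <;> simp [hneg]
      · rw [hba, b1]; simp [Cfsg.sympForm, Matrix.J, Matrix.one_apply, apply_ite (Subtype.val : F₀ → F),
          eq_comm]
      · rw [b3]; simp [Cfsg.sympForm, Matrix.J]
    exact fun x y => by
      have := LinearMap.congr_fun (LinearMap.congr_fun e x) y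
      simpa [LinearMap.compl₁₂_apply, Forms.sympBilin_apply] using this
  have hinj : Function.Injective fun x => Bm *ᵥ x := fun x y hxy => by
    rw [← sub_eq_zero]
    by_contra hne
    obtain ⟨z, hz⟩ := (isSymplecticForm_sympForm.nondegenerate _ hne).2
    refine hz ?_
    rw [← hT]
    simp [T, ← mulVec_mulVec, mulVec_sub, show Bm *ᵥ x = Bm *ᵥ y from hxy, sesq_sympForm.zero_left]
  set Bu : G := (mulVec_injective_iff_isUnit.1 hinj).unit with hBu
  have hBv : (Bu : Mat) = Bm := IsUnit.unit_spec _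
  have hBK : Bu ∈ subfieldSubgroup F₀ (1 : G) := mem_subfieldSubgroup_one_iff.2 ⟨s⁻¹, inv_ne_zero hs0,
    fun i j => by
      rw [hBv, Matrix.smul_apply, smul_eq_mul, show Bm i j = s * (b j i : F) from rfl,
        inv_mul_cancel_left₀ hs0]
      exact (b j i).2⟩
  refine ⟨P * Bu, mem_spGL_iff.2 fun x y => ?_, fun x => ?_⟩
  · rw [Units.val_mul, hBv]
    exact hT x y
  · have h1 : x ∈ subfieldSubgroup F₀ P ↔ P⁻¹ * x * P ∈ subfieldSubgroup F₀ (1 : G) := by
      simp only [subfieldSubgroup, map_one, Subgroup.mem_map]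
      constructor
      · rintro ⟨y, hy, rfl⟩
        exact ⟨y, hy, by simp [mul_assoc]⟩
      · rintro ⟨y, hy, e⟩
        exact ⟨y, hy, by
          have e' : y = P⁻¹ * x * P := by simpa using e
          subst e'
          simp [mul_assoc]⟩
    rw [h1, show (P * Bu)⁻¹ * x * (P * Bu) = Bu⁻¹ * (P⁻¹ * x * P) * Bu by group]
    constructor
    · exact fun h => mul_mem (mul_mem (inv_mem hBK) h) hBK
    · intro h
      simpa [mul_assoc] using mul_mem (mul_mem hBK h) (inv_mem hBK)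

/-- All rational centres give all centres. -/
theorem centreIn_all (h2 : (2 : F) = 0) {F₀ : Subfield F} {M : Subgroup G}
    (h : ∀ x, Rat F₀ x → x ≠ 0 → CentreIn M x) : Cfsg.spGL 2 F ≤ M := by
  obtain ⟨f, a, b, hfr⟩ := exists_frame h2 (rat_single F₀ (Sum.inl 0)) (by simp)
  set e : V := Pi.single (Sum.inl 0) 1
  have hnz : ∀ {x y : V}, ω x y ≠ 0 → x ≠ 0 ∧ y ≠ 0 := fun {x y} hxy =>
    ⟨fun h0 => hxy (by rw [h0, sesq_sympForm.zero_left]), fun h0 => hxy (by rw [h0, sesq_sympForm.zero_right])⟩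
  have he := hnz (x := e) (y := f) (by rw [hfr.ef]; exact one_ne_zero)
  have hab := hnz (x := a) (y := b) (by rw [hfr.ab]; exact one_ne_zero)
  have hplane : ∀ {x y : V}, Rat F₀ x → Rat F₀ y → ω x y = 1 → ∀ r t : F, CentreIn M (r • x + t • y) := by
    intro x y hx hy hxy r t
    have hn := hnz (x := x) (y := y) (by rw [hxy]; exact one_ne_zero)
    rcases eq_or_ne r 0 with rfl | hr
    · rw [zero_smul, zero_add]; exact (h y hy hn.2).smul t
    rcases eq_or_ne t 0 with rfl | ht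
    · rw [zero_smul, add_zero]; exact (h x hx hn.1).smul r
    refine ((h x hx hn.1).smul r).add ((h y hy hn.2).smul t) ?_
    rw [smul_l, smul_r, hxy, mul_one]
    exact mul_ne_zero hr ht
  refine top_of_centreIn fun v _ => ?_
  obtain ⟨c₁, c₂, c₃, c₄, rfl⟩ : ∃ c₁ c₂ c₃ c₄ : F, v = c₁ • e + c₂ • f + c₃ • a + c₄ • b :=
    ⟨_, _, _, _, hfr.decomp h2 v⟩
  set p₁ := c₁ • e + c₂ • f with hp₁
  rw [show p₁ + c₃ • a + c₄ • b = p₁ + (c₃ • a + c₄ • b) by abel]
  set p₂ := c₃ • a + c₄ • b with hp₂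
  by_cases h1 : c₁ = 0 ∧ c₂ = 0
  · rw [hp₁, h1.1, h1.2, zero_smul, zero_smul, zero_add, zero_add]
    exact hplane hfr.ra hfr.rb hfr.ab _ _
  by_cases h3 : c₃ = 0 ∧ c₄ = 0
  · rw [hp₂, h3.1, h3.2, zero_smul, zero_smul, add_zero, add_zero]
    exact hplane hfr.re hfr.rf hfr.ef _ _
  obtain ⟨x, hx, hxp, hxab, r, t, hxeq⟩ : ∃ x, Rat F₀ x ∧ ω x p₁ ≠ 0 ∧ (ω x a = 0 ∧ ω x b = 0) ∧
      ∃ r t : F, x = r • e + t • f := by
    by_cases hc : c₂ = 0
    · refine ⟨f, hfr.rf, ?_, ⟨hfr.fa, hfr.fb⟩, 0, 1, by simp⟩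
      rw [hp₁, add_r, smul_r, smul_r, self, sy h2 e f, hfr.ef, mul_one, mul_zero, add_zero]
      exact fun e0 => h1 ⟨e0, hc⟩
    · refine ⟨e, hfr.re, ?_, ⟨hfr.ea, hfr.eb⟩, 1, 0, by simp⟩
      rw [hp₁, add_r, smul_r, smul_r, self, hfr.ef, mul_one, mul_zero, zero_add]
      exact hc
  obtain ⟨z, hz, hzp, hzef⟩ : ∃ z, Rat F₀ z ∧ ω z p₂ ≠ 0 ∧ (ω e z = 0 ∧ ω f z = 0) := by
    by_cases hc : c₄ = 0
    · refine ⟨b, hfr.rb, ?_, hfr.eb, hfr.fb⟩
      rw [hp₂, add_r, smul_r, smul_r, self, sy h2 a b, hfr.ab, mul_one, mul_zero, add_zero]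
      exact fun e0 => h3 ⟨e0, hc⟩
    · refine ⟨a, hfr.ra, ?_, hfr.ea, hfr.fa⟩
      rw [hp₂, add_r, smul_r, smul_r, self, hfr.ab, mul_one, mul_zero, zero_add]
      exact hc
  have hxp₂ : ω x p₂ = 0 := by rw [hp₂, add_r, smul_r, smul_r, hxab.1, hxab.2, mul_zero, mul_zero, add_zero]
  have hxz : ω x z = 0 := by rw [hxeq, add_l, smul_l, smul_l, hzef.1, hzef.2, mul_zero, mul_zero, add_zero]
  have hp₁z : ω p₁ z = 0 := by rw [hp₁, add_l, smul_l, smul_l, hzef.1, hzef.2, mul_zero, mul_zero, add_zero]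
  have hp12 : ω p₁ p₂ = 0 := by
    rw [hp₁, hp₂, add_l, smul_l, smul_l, add_r, add_r, smul_r, smul_r, smul_r, smul_r, hfr.ea, hfr.eb,
      hfr.fa, hfr.fb]
    ring
  have hxz0 : x + z ≠ 0 := fun e0 => hxp (by
    have h5 := congrArg (fun y => ω y p₁) e0
    simpa [add_l, sy h2 p₁ z, hp₁z, sesq_sympForm.zero_left] using h5)
  have hA : CentreIn M (p₁ + z) := by
    have h5 : CentreIn M (p₁ + x) := by
      rw [hxeq, hp₁, add_add_add_comm, ← add_smul, ← add_smul]
      exact hplane hfr.re hfr.rf hfr.ef _ _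
    have h6 := (h _ (hx.add hz) hxz0).add h5 (by
      rw [add_r, add_l, add_l, self, sy h2 p₁ z, hp₁z, sy h2 x z, hxz, add_zero, add_zero, add_zero]
      exact hxp)
    rwa [show x + z + (p₁ + x) = p₁ + z + (x + x) by abel, add_self h2, add_zero] at h6
  have hB : CentreIn M (p₂ + z) := by
    obtain ⟨r', t', hzeq⟩ : ∃ r t : F, z = r • a + t • b := by
      refine ⟨ω z b, ω z a, ?_⟩
      conv_lhs => rw [hfr.decomp h2 z]
      rw [sy h2 f z, sy h2 e z, hzef.1, hzef.2, zero_smul, zero_smul, zero_add, zero_add]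
    rw [hzeq, hp₂, add_add_add_comm, ← add_smul, ← add_smul]
    exact hplane hfr.ra hfr.rb hfr.ab _ _
  have h7 := hA.add hB (by
    rw [add_r (p₁ + z) p₂ z, add_l p₁ z p₂, add_l p₁ z z, hp12, hp₁z, self, zero_add, add_zero, add_zero]
    exact hzp)
  rwa [show p₁ + z + (p₂ + z) = p₁ + p₂ + (z + z) by abel, add_self h2, add_zero] at h7

/-- Subfield groups are maximal. -/
theorem isMaximalIn_spSubfield (h2 : (2 : F) = 0) (F₀ : Subfield F) (r : ℕ) (hr : r.Prime)
    (hcard : Fintype.card F = Nat.card F₀ ^ r) (P : G) (ζ : F) (hζ : ζ ≠ 0)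
    (hP : IsFormRationalStructure (Cfsg.sympForm 2 F) F₀ ζ P) :
    IsMaximalIn (Cfsg.spGL 2 F) (subfieldSubgroup F₀ P ⊓ Cfsg.spGL 2 F) := by
  obtain ⟨Q, hQ, hmem⟩ := exists_standard h2 hζ hP
  refine isMaximalIn_of inf_le_right ?_ fun M hHM hMK g hg hg' => ?_
  · obtain ⟨c, hc⟩ : ∃ c : F, c ∉ F₀ := by
      by_contra hcon
      push Not at hcon
      haveI : Fintype F₀ := Fintype.ofFinite _
      have h1 : Nat.card F₀ = Fintype.card F := by
        rw [Nat.card_eq_fintype_card]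
        exact Fintype.card_congr ⟨Subtype.val, fun x => ⟨x, hcon x⟩, fun _ => rfl, fun _ => rfl⟩
      rw [h1] at hcard
      exact absurd (Nat.pow_eq_self_iff Fintype.one_lt_card |>.1 hcard.symm) hr.ne_one
    set e : V := Pi.single (Sum.inl 0) 1 with he
    have her : Rat F₀ e := rat_single F₀ _
    obtain ⟨f, a, b, hfr⟩ := exists_frame h2 her (by simp [he])
    refine ⟨Q * spTv e c * Q⁻¹, mul_mem (mul_mem hQ (spTv_mem e c)) (inv_mem hQ), fun h => hc ?_⟩
    have h1 := (hmem _).1 h.1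
    rw [show Q⁻¹ * (Q * spTv e c * Q⁻¹) * Q = spTv e c by group] at h1
    have h3 := (rat_of_mem h2 (spTv_mem e c) h1 hfr.rf).form hfr.rf
    rw [spTv_mulVec, sy h2 e f, hfr.ef, mul_one, add_l, self, smul_l, hfr.ef, mul_one, zero_add] at h3
    exact h3
  · let M' : Subgroup G := M.comap (MulAut.conj Q).toMonoidHom
    have hM'mem : ∀ x, x ∈ M' ↔ Q * x * Q⁻¹ ∈ M := fun x => Iff.rfl
    have hM' : Over F₀ M' := by
      refine ⟨fun x hx => ?_, fun x hx hxr => (hM'mem x).2 (hHM ⟨(hmem _).2 ?_, ?_⟩)⟩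
      · have h1 := mul_mem (mul_mem (inv_mem hQ) (hMK ((hM'mem x).1 hx))) hQ
        rwa [show Q⁻¹ * (Q * x * Q⁻¹) * Q = x by group] at h1
      · rw [show Q⁻¹ * (Q * x * Q⁻¹) * Q = x by group]
        refine mem_subfieldSubgroup_one_of_rat fun i j => ?_
        have h1 := hxr _ (rat_single F₀ j) i
        simpa using h1
      · exact (mul_mem (mul_mem hQ hx) (inv_mem hQ) : Q * x * Q⁻¹ ∈ Cfsg.spGL 2 F)
    rcases hM'.rat_or_long h2 with hr' | ⟨e, he, he0, c, hc, hcM⟩
    · refine absurd ⟨(hmem g).2 (mem_subfieldSubgroup_one_of_rat fun i j => ?_), hMK hg⟩ hg'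
      have h1 := hr' (Q⁻¹ * g * Q) ((hM'mem _).2 (by rwa [show Q * (Q⁻¹ * g * Q) * Q⁻¹ = g by group]))
        _ (rat_single F₀ j) i
      simpa using h1
    · have htop := centreIn_all h2 fun x hx hx0 => hM'.centreIn_of_long h2 hr hcard he he0 hc hcM hx hx0
      intro x hx
      have h1 := (hM'mem _).1 (htop (mul_mem (mul_mem (inv_mem hQ) hx) hQ))
      rwa [show Q * (Q⁻¹ * x * Q) * Q⁻¹ = x by group] at h1

end CfsgLib.SpFourEven
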