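import Cfsg.Agent.MaxSub.OrthogonalInSymplectic

/-!
# Root elements of the four-dimensional symplectic groups in characteristic two
-/

set_option autoImplicit false
set_option linter.unusedSectionVars false

namespace CfsgLib.SpFourEven

open Matrix Cfsg.Geo CfsgLib.MaxSub

variable {F : Type*} [Field F]

local notation "V" => (Fin 2 ⊕ Fin 2 → F)
local notation "ω" => Cfsg.sympForm 2 F
local notation "Mat" => Matrix (Fin 2 ⊕ Fin 2) (Fin 2 ⊕ Fin 2) F
local notation "G" => GL (Fin 2 ⊕ Fin 2) F

theorem sy (h2 : (2 : F) = 0) (x y : V) : ω y x = ω x y := by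
  rw [Forms.sympForm_swap]
  linear_combination (-ω x y) * h2

theorem add_self (h2 : (2 : F) = 0) (x : V) : x + x = 0 := by rw [← two_smul F x, h2, zero_smul]

theorem add_l (x y z : V) : ω (x + y) z = ω x z + ω y z := sesq_sympForm.add_left x y z

theorem add_r (x y z : V) : ω x (y + z) = ω x y + ω x z := sesq_sympForm.add_right x y z

theorem smul_l (c : F) (x y : V) : ω (c • x) y = c * ω x y := sesq_sympForm.smul_left c x y

theorem smul_r (c : F) (x y : V) : ω x (c • y) = c * ω x y := by
  rw [sesq_sympForm.smul_right]; rfl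

theorem self (x : V) : ω x x = 0 := Forms.sympForm_self x

theorem sp_ext {g h : G} (e : ∀ x, (g : Mat) *ᵥ x = (h : Mat) *ᵥ x) : g = h := gl_ext e

theorem spTv_add (v : V) (c d : F) : spTv v c * spTv v d = spTv v (c + d) := by
  refine sp_ext fun x => ?_
  simp only [Units.val_mul, ← mulVec_mulVec, spTv_mulVec, add_l, smul_l, self, mul_zero, add_zero]
  module

theorem spTv_zero (v : V) : spTv v (0 : F) = 1 := by
  refine sp_ext fun x => ?_
  simp [spTv_mulVec]

theorem spTv_one_smul {s c : F} (v : V) (hs : s * s = c) : spTv (s • v) 1 = spTv v c := by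
  rw [spTv_smul, one_mul, hs]

theorem mem_of_mulVec_eq {g : G} (hg : g ∈ Cfsg.spGL 2 F) (x y : V) :
    ω ((g : Mat) *ᵥ x) ((g : Mat) *ᵥ y) = ω x y := mem_spGL_iff.mp hg x y

/-- The element `x ↦ x + ω(x, e) a + ω(x, a) e + c ω(x, e) e` (for `ω(e, a) = 0`). -/
noncomputable def qElt (e a : V) (c : F) : G := spTv a 1 * spTv (a + e) 1 * spTv e (c + 1)

theorem qElt_mulVec (h2 : (2 : F) = 0) {e a : V} (hea : ω e a = 0) (c : F) (x : V) :
    (qElt e a c : Mat) *ᵥ x = x + ω x e • a + (ω x a + c * ω x e) • e := by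
  have hae : ω a e = 0 := by rw [sy h2, hea]
  simp only [qElt, Units.val_mul, ← mulVec_mulVec, spTv_mulVec, add_l, add_r, smul_l, self, hea, hae,
    one_mul, mul_zero, add_zero, mul_add, smul_add, add_smul]
  have h : ∀ y : V, y + y = 0 := add_self h2
  match_scalars <;> ring_nf <;> simp [h2]

theorem qElt_mem (e a : V) (c : F) : qElt e a c ∈ Cfsg.spGL 2 F :=
  mul_mem (mul_mem (spTv_mem _ _) (spTv_mem _ _)) (spTv_mem _ _)

theorem conj_qElt {g : G} (hg : g ∈ Cfsg.spGL 2 F) (e a : V) (c : F) :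
    g * qElt e a c * g⁻¹ = qElt ((g : Mat) *ᵥ e) ((g : Mat) *ᵥ a) c := by
  simp only [qElt]
  rw [← mulVec_add, ← conj_spTv hg, ← conj_spTv hg, ← conj_spTv hg]
  group

theorem qElt_mul (h2 : (2 : F) = 0) {e a b : V} (ha : ω e a = 0) (hb : ω e b = 0) (c d : F) :
    qElt e a c * qElt e b d = qElt e (a + b) (c + d + ω a b) := by
  refine sp_ext fun x => ?_
  have hab : ω e (a + b) = 0 := by rw [add_r, ha, hb, add_zero]
  rw [Units.val_mul, ← mulVec_mulVec, qElt_mulVec h2 ha, qElt_mulVec h2 hb, qElt_mulVec h2 hab]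
  simp only [add_l, add_r, smul_l, sy h2 a b, self, ha, hb, sy h2 e a, sy h2 e b, mul_zero, add_zero,
    mul_add, add_smul, smul_add]
  module

theorem qElt_zero (h2 : (2 : F) = 0) (e : V) (c : F) : qElt e 0 c = spTv e c := by
  refine sp_ext fun x => ?_
  rw [qElt_mulVec h2 (sesq_sympForm.zero_right e), spTv_mulVec, sesq_sympForm.zero_right]
  simp

theorem qElt_shift (h2 : (2 : F) = 0) {e a : V} (hea : ω e a = 0) (μ c : F) :
    qElt e (a + μ • e) c = qElt e a c := by
  refine sp_ext fun x => ?_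
  rw [qElt_mulVec h2 (by rw [add_r, smul_r, hea, self, mul_zero, add_zero]), qElt_mulVec h2 hea]
  simp only [add_r, smul_r, smul_add, add_smul]
  match_scalars <;> ring_nf <;> simp [h2]

theorem qElt_smul_eq (h2 : (2 : F) = 0) {e a : V} (hea : ω e a = 0) (t : F) :
    spTv (a + e) t * spTv a t * spTv e t = qElt e (t • a) 0 := by
  refine sp_ext fun x => ?_
  have hae : ω a e = 0 := by rw [sy h2, hea]
  rw [qElt_mulVec h2 (by rw [smul_r, hea, mul_zero])]
  simp only [Units.val_mul, ← mulVec_mulVec, spTv_mulVec, add_l, add_r, smul_l, smul_r, self, hea, hae,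
    mul_zero, add_zero, mul_add, smul_add, add_smul]
  match_scalars <;> ring_nf <;> simp [h2]

/-- A transvection moves a root element by a root element. -/
theorem qElt_conj_spTv (h2 : (2 : F) = 0) {e a b : V} (hea : ω e a = 0) (heb : ω e b = 0) (c t : F)
    {M : Subgroup G} (hq : qElt e a c ∈ M) (ht : spTv b t ∈ M) :
    qElt e ((t * ω a b) • b) (t * (ω a b * ω a b)) ∈ M := by
  have h := M.mul_mem (M.mul_mem (M.mul_mem ht hq) (M.inv_mem ht)) hq
  rw [conj_qElt (spTv_mem b t), spTv_mulVec, spTv_mulVec, heb, mul_zero, zero_smul, add_zero,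
    qElt_mul h2 (by rw [add_r, smul_r, hea, heb, mul_zero, add_zero]) hea, add_l, smul_l, self,
    sy h2 a b] at h
  convert h using 2
  · rw [add_comm a, add_assoc, add_self h2, add_zero]
  · linear_combination (-c) * h2

/-- An element fixing `e` moves a root element by a root element. -/
theorem qElt_conj_mem (h2 : (2 : F) = 0) {e a : V} (hea : ω e a = 0) {c : F} {M : Subgroup G} {g : G}
    (hg : g ∈ Cfsg.spGL 2 F) (hgM : g ∈ M) (hge : (g : Mat) *ᵥ e = e) (hq : qElt e a c ∈ M) :
    qElt e ((g : Mat) *ᵥ a + a) (ω ((g : Mat) *ᵥ a) a) ∈ M := by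
  have hga : ω e ((g : Mat) *ᵥ a) = 0 := by
    rw [← hea]
    conv_lhs => rw [← hge]
    exact mem_of_mulVec_eq hg e a
  have h := M.mul_mem (M.mul_mem (M.mul_mem hgM hq) (M.inv_mem hgM)) hq
  rw [conj_qElt hg, hge, qElt_mul h2 hga hea] at h
  convert h using 2
  linear_combination (-c) * h2

/-- A vector and a root element give the vector difference. -/
theorem spTv_mem_of_qElt (h2 : (2 : F) = 0) {e a : V} (hea : ω e a = 0) {c d : F} {M : Subgroup G}
    (hc : qElt e a c ∈ M) (hd : qElt e a d ∈ M) : spTv e (c + d) ∈ M := by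
  have h := M.mul_mem hc hd
  rwa [qElt_mul h2 hea hea, self, add_zero, add_self h2, qElt_zero h2] at h

theorem spTv_one_inj (h2 : (2 : F) = 0) {u v : V} (h : spTv u (1 : F) = spTv v 1) (hu : u ≠ 0) : u = v := by
  obtain ⟨x, hx⟩ := (isSymplecticForm_sympForm.nondegenerate u hu).1
  have e := congrArg (fun g : G => (g : Mat) *ᵥ x) h
  simp only [spTv_mulVec, one_mul] at e
  have e' : ω x u • u = ω x v • v := add_left_cancel e
  set r := ω x v / ω x u with hr
  have hur : u = r • v := by
    rw [hr, div_eq_mul_inv, mul_comm, ← smul_smul, ← e', inv_smul_smul₀ hx]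
  have hrr : r * r = 1 := by
    have h3 : ω x u = r * ω x v := by rw [hur, smul_r]
    have hv : ω x v ≠ 0 := fun e0 => hx (by rw [h3, e0, mul_zero])
    rw [hr] at h3 ⊢
    field_simp at h3 ⊢
    linear_combination -h3
  have : (r - 1) * (r - 1) = 0 := by linear_combination hrr + (1 - r) * h2
  rw [hur, sub_eq_zero.1 (mul_self_eq_zero.1 this), one_smul]

/-- Full transvection groups at all vectors give the symplectic group. -/
theorem top_of_centreIn {M : Subgroup G} (h : ∀ v : V, v ≠ 0 → CentreIn M v) : Cfsg.spGL 2 F ≤ M :=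
  spGL_le_of_forall_spTv fun v c => by
    rcases eq_or_ne v 0 with rfl | hv
    · exact centreIn_zero M c
    · exact h v hv c

end CfsgLib.SpFourEven
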