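import Cfsg.Agent.SpFourEven.Basic
import Cfsg.Agent.MaxSub.SubfieldBlock
import Cfsg.Agent.Forms.SymplecticBasis

/-!
# Subfield groups are maximal in the four-dimensional symplectic groups of characteristic two
-/

set_option autoImplicit false
set_option linter.unusedSectionVars false

namespace CfsgLib.SpFourEven

open Matrix Cfsg.Geo CfsgLib.MaxSub

variable {F : Type*} [Field F] [Fintype F]

local notation "V" => (Fin 2 ⊕ Fin 2 → F)
local notation "ω" => Cfsg.sympForm 2 F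
local notation "Mat" => Matrix (Fin 2 ⊕ Fin 2) (Fin 2 ⊕ Fin 2) F
local notation "G" => GL (Fin 2 ⊕ Fin 2) F

/-- All coordinates lie in the subfield. -/
def Rat (F₀ : Subfield F) (v : V) : Prop := ∀ i, v i ∈ F₀

theorem Rat.add {F₀ : Subfield F} {u v : V} (hu : Rat F₀ u) (hv : Rat F₀ v) : Rat F₀ (u + v) :=
  fun i => F₀.add_mem (hu i) (hv i)

theorem Rat.smul {F₀ : Subfield F} {c : F} {v : V} (hc : c ∈ F₀) (hv : Rat F₀ v) : Rat F₀ (c • v) :=
  fun i => F₀.mul_mem hc (hv i)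

theorem rat_single (F₀ : Subfield F) (i : Fin 2 ⊕ Fin 2) : Rat F₀ (Pi.single i (1 : F) : V) := fun j => by
  rcases eq_or_ne j i with rfl | h
  · rw [Pi.single_eq_same]; exact F₀.one_mem
  · rw [Pi.single_eq_of_ne h]; exact F₀.zero_mem

theorem Rat.form {F₀ : Subfield F} {u v : V} (hu : Rat F₀ u) (hv : Rat F₀ v) : ω u v ∈ F₀ := by
  rw [Cfsg.sympForm, dotProduct]
  refine Subfield.sum_mem _ fun i _ => F₀.mul_mem (hu i) ?_
  rw [mulVec, dotProduct]
  refine Subfield.sum_mem _ fun j _ => F₀.mul_mem ?_ (hv j)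
  simp only [Matrix.J, Matrix.fromBlocks]
  rcases i with i | i <;> rcases j with j | j <;>
    simp [Matrix.one_apply, apply_ite (fun x => -x : F → F)] <;> split_ifs <;>
    simp [F₀.zero_mem, F₀.one_mem, F₀.neg_mem]

theorem mem_of_sq_mem (h2 : (2 : F) = 0) {F₀ : Subfield F} {x : F} (h : x ^ 2 ∈ F₀) : x ∈ F₀ := by
  have hinj : Function.Injective (fun a : F₀ => a * a) := fun a b hab => by
    have e0 : (a : F) * a = b * b := congrArg Subtype.val hab
    have e : ((a : F) - b) * ((a : F) - b) = 0 := by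
      linear_combination e0 + ((b : F) * b - a * b) * h2
    exact Subtype.ext (sub_eq_zero.1 (mul_self_eq_zero.1 e))
  obtain ⟨y, hy⟩ := Finite.injective_iff_surjective.1 hinj ⟨x ^ 2, h⟩
  have e0 : (y : F) * y = x ^ 2 := congrArg Subtype.val hy
  have e : (x - y) * (x - y) = 0 := by
    linear_combination -e0 + ((y : F) * y - x * y) * h2
  rw [sub_eq_zero.1 (mul_self_eq_zero.1 e)]
  exact y.2

theorem exists_sq_mem (h2 : (2 : F) = 0) {F₀ : Subfield F} {k : F} (hk : k ∈ F₀) :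
    ∃ s ∈ F₀, s * s = k := by
  have hinj : Function.Injective (fun a : F₀ => a * a) := fun a b hab => by
    have e0 : (a : F) * a = b * b := congrArg Subtype.val hab
    have e : ((a : F) - b) * ((a : F) - b) = 0 := by
      linear_combination e0 + ((b : F) * b - a * b) * h2
    exact Subtype.ext (sub_eq_zero.1 (mul_self_eq_zero.1 e))
  obtain ⟨y, hy⟩ := Finite.injective_iff_surjective.1 hinj ⟨k, hk⟩
  exact ⟨y, y.2, congrArg Subtype.val hy⟩

/-- Two hyperbolic pairs of rational vectors, orthogonal to each other. -/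
structure Frame (F₀ : Subfield F) (e f a b : V) : Prop where
  re : Rat F₀ e
  rf : Rat F₀ f
  ra : Rat F₀ a
  rb : Rat F₀ b
  ef : ω e f = 1
  ab : ω a b = 1
  ea : ω e a = 0
  eb : ω e b = 0
  fa : ω f a = 0
  fb : ω f b = 0

theorem Frame.swap (h2 : (2 : F) = 0) {F₀ : Subfield F} {e f a b : V} (h : Frame F₀ e f a b) :
    Frame F₀ e f b a :=
  ⟨h.re, h.rf, h.rb, h.ra, h.ef, by rw [sy h2]; exact h.ab, h.eb, h.ea, h.fb, h.fa⟩

theorem Frame.coeff (h2 : (2 : F) = 0) {F₀ : Subfield F} {e f a b : V} (h : Frame F₀ e f a b)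
    (c₁ c₂ c₃ c₄ : F) :
    ω (c₁ • e + c₂ • f + c₃ • a + c₄ • b) f = c₁ ∧ ω (c₁ • e + c₂ • f + c₃ • a + c₄ • b) e = c₂ ∧
      ω (c₁ • e + c₂ • f + c₃ • a + c₄ • b) b = c₃ ∧ ω (c₁ • e + c₂ • f + c₃ • a + c₄ • b) a = c₄ := by
  simp only [add_l, smul_l, self, h.ef, h.ab, h.eb, h.fb, h.ea, h.fa, sy h2 e f, sy h2 f a, sy h2 f b,
    sy h2 e a, sy h2 e b, sy h2 a b, mul_zero, mul_one, add_zero, zero_add, and_self]

theorem Frame.decomp (h2 : (2 : F) = 0) {F₀ : Subfield F} {e f a b : V} (h : Frame F₀ e f a b) (v : V) :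
    v = ω v f • e + ω v e • f + ω v b • a + ω v a • b := by
  have hli : LinearIndependent F ![e, f, a, b] := by
    rw [Fintype.linearIndependent_iff]
    intro g hg
    simp only [Fin.sum_univ_four, Matrix.cons_val_zero, Matrix.cons_val_one, Matrix.cons_val] at hg
    obtain ⟨e0, e1, e2, e3⟩ := h.coeff h2 (g 0) (g 1) (g 2) (g 3)
    rw [hg, sesq_sympForm.zero_left] at e0 e1 e2 e3
    intro i
    fin_cases i <;> simp_all
  have htop := hli.span_eq_top_of_card_eq_finrank (by simp)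
  obtain ⟨c, hc⟩ := (Submodule.mem_span_range_iff_exists_fun F).1 (htop.symm ▸ Submodule.mem_top (x := v))
  simp only [Fin.sum_univ_four, Matrix.cons_val_zero, Matrix.cons_val_one, Matrix.cons_val] at hc
  obtain ⟨e0, e1, e2, e3⟩ := h.coeff h2 (c 0) (c 1) (c 2) (c 3)
  rw [← hc, e0, e1, e2, e3]

theorem exists_rat_nonorth {F₀ : Subfield F} {e : V} (he : e ≠ 0) :
    ∃ x, Rat F₀ x ∧ ω e x ≠ 0 := by
  by_contra hcon
  push Not at hcon
  obtain ⟨y, hy⟩ := (isSymplecticForm_sympForm.nondegenerate e he).2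
  refine hy ?_
  rw [← Finset.univ_sum_single y, ← Forms.sympBilin_apply, map_sum]
  refine Finset.sum_eq_zero fun i _ => ?_
  rw [Forms.sympBilin_apply, show (Pi.single i (y i) : V) = y i • Pi.single i (1 : F) by
    rw [← Pi.single_smul, smul_eq_mul, mul_one], smul_r, hcon _ (rat_single F₀ i), mul_zero]

theorem exists_frame (h2 : (2 : F) = 0) {F₀ : Subfield F} {e : V} (he : Rat F₀ e) (he0 : e ≠ 0) :
    ∃ f a b, Frame F₀ e f a b := by
  obtain ⟨x, hx, hex⟩ := exists_rat_nonorth (F₀ := F₀) he0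
  set f := (ω e x)⁻¹ • x with hfdef
  have hf : Rat F₀ f := hx.smul (F₀.inv_mem (he.form hx))
  have hef : ω e f = 1 := by rw [hfdef, smul_r, inv_mul_cancel₀ hex]
  let p : V → V := fun v => v + ω v f • e + ω v e • f
  have hpe : ∀ v, ω e (p v) = 0 := fun v => by
    simp only [p, add_r, smul_r, self, hef, sy h2 v e, mul_zero, mul_one, add_zero]
    linear_combination (ω v e) * h2
  have hpf : ∀ v, ω f (p v) = 0 := fun v => by
    simp only [p, add_r, smul_r, self, sy h2 e f, hef, sy h2 v f, mul_zero, mul_one, add_zero]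
    linear_combination (ω v f) * h2
  have hpr : ∀ i, Rat F₀ (p (Pi.single i 1)) := fun i =>
    ((rat_single F₀ i).add (he.smul ((rat_single F₀ i).form hf))).add (hf.smul ((rat_single F₀ i).form he))
  obtain ⟨i, hi⟩ : ∃ i, p (Pi.single i 1) ≠ 0 := by
    by_contra hcon
    push Not at hcon
    have hle : (⊤ : Submodule F V) ≤ Submodule.span F ({e, f} : Set V) := by
      intro v _
      rw [← Finset.univ_sum_single v]
      refine Submodule.sum_mem _ fun i _ => ?_
      rw [show (Pi.single i (v i) : V) = v i • Pi.single i (1 : F) by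
        rw [← Pi.single_smul, smul_eq_mul, mul_one]]
      refine Submodule.smul_mem _ _ ?_
      have e1 : p (Pi.single i 1) + (ω (Pi.single i 1) f • e + ω (Pi.single i 1) e • f) = Pi.single i 1 := by
        simp only [p]
        match_scalars <;> ring_nf <;> simp [h2]
      rw [← e1, hcon i, zero_add]
      exact Submodule.add_mem _ (Submodule.smul_mem _ _ (Submodule.subset_span (Set.mem_insert _ _)))
        (Submodule.smul_mem _ _ (Submodule.subset_span (Set.mem_insert_of_mem _ rfl)))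
    have h4 := Submodule.finrank_mono hle
    classical
    have h5 : Module.finrank F (Submodule.span F ({e, f} : Set V)) ≤ 2 := by
      refine (finrank_span_le_card _).trans ?_
      rw [Set.toFinset_insert, Set.toFinset_singleton]
      exact Finset.card_le_two
    rw [finrank_top, Module.finrank_fintype_fun_eq_card] at h4
    simp at h4
    omega
  obtain ⟨y, hy, hay⟩ := exists_rat_nonorth (F₀ := F₀) hi
  set a := p (Pi.single i 1) with ha
  have hb : ω a (p y) = ω a y := by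
    show ω a (y + ω y f • e + ω y e • f) = _
    have h1 : ω a e = 0 := by rw [sy h2 e a]; exact hpe _
    have h3 : ω a f = 0 := by rw [sy h2 f a]; exact hpf _
    rw [add_r, add_r, smul_r (ω y f) a e, smul_r (ω y e) a f, h1, h3, mul_zero, add_zero, mul_zero,
      add_zero]
  have hpy : Rat F₀ (p y) := (hy.add (he.smul (hy.form hf))).add (hf.smul (hy.form he))
  exact ⟨f, a, (ω a y)⁻¹ • p y, he, hf, hpr i, hpy.smul (F₀.inv_mem ((hpr i).form hy)), hef,
    by rw [smul_r, hb, inv_mul_cancel₀ hay], hpe _, by rw [smul_r, hpe, mul_zero], hpf _,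
    by rw [smul_r, hpf, mul_zero]⟩

/-- A subgroup of the symplectic group containing the rational elements. -/
structure Over (F₀ : Subfield F) (M : Subgroup G) : Prop where
  le : M ≤ Cfsg.spGL 2 F
  rat : ∀ g ∈ Cfsg.spGL 2 F, (∀ v, Rat F₀ v → Rat F₀ ((g : Mat) *ᵥ v)) → g ∈ M

variable {F₀ : Subfield F} {M : Subgroup (GL (Fin 2 ⊕ Fin 2) F)}

theorem Over.spTv_rat (hM : Over F₀ M) {v : V} (hv : Rat F₀ v) {c : F} (hc : c ∈ F₀) : spTv v c ∈ M :=
  hM.rat _ (spTv_mem v c) fun x hx => by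
    rw [spTv_mulVec]
    exact hx.add (hv.smul (F₀.mul_mem hc (hx.form hv)))

theorem Over.qElt_rat (hM : Over F₀ M) {e a : V} (he : Rat F₀ e) (ha : Rat F₀ a) {c : F} (hc : c ∈ F₀) :
    qElt e a c ∈ M :=
  mul_mem (mul_mem (hM.spTv_rat ha F₀.one_mem) (hM.spTv_rat (ha.add he) F₀.one_mem))
    (hM.spTv_rat he (F₀.add_mem hc F₀.one_mem))

theorem Over.exists_move (h2 : (2 : F) = 0) (hM : Over F₀ M) {e f : V} (he : Rat F₀ e) (hf : Rat F₀ f)
    (he0 : e ≠ 0) (hf0 : f ≠ 0) : ∃ g ∈ M, (g : Mat) *ᵥ e = f := by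
  have step : ∀ {x y : V}, Rat F₀ x → Rat F₀ y → ω x y ≠ 0 → ∃ g ∈ M, (g : Mat) *ᵥ x = y := by
    intro x y hx hy hxy
    refine ⟨spTv (x + y) (ω x y)⁻¹, hM.spTv_rat (hx.add hy) (F₀.inv_mem (hx.form hy)), ?_⟩
    rw [spTv_mulVec, add_r, self, zero_add, inv_mul_cancel₀ hxy, one_smul, ← add_assoc, add_self h2,
      zero_add]
  obtain ⟨z, hz, hez, hzf⟩ : ∃ z, Rat F₀ z ∧ ω e z ≠ 0 ∧ ω z f ≠ 0 := by
    obtain ⟨x, hx, hex⟩ := exists_rat_nonorth (F₀ := F₀) he0
    obtain ⟨y, hy, hfy⟩ := exists_rat_nonorth (F₀ := F₀) hf0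
    rw [sy h2] at hfy
    by_cases c1 : ω x f = 0
    · by_cases c2 : ω e y = 0
      · exact ⟨x + y, hx.add hy, by rw [add_r, c2, add_zero]; exact hex,
          by rw [add_l, c1, zero_add]; exact hfy⟩
      · exact ⟨y, hy, c2, hfy⟩
    · exact ⟨x, hx, hex, c1⟩
  obtain ⟨g₁, hg₁, e₁⟩ := step he hz hez
  obtain ⟨g₂, hg₂, e₂⟩ := step hz hf hzf
  exact ⟨g₂ * g₁, mul_mem hg₂ hg₁, by rw [Units.val_mul, ← mulVec_mulVec, e₁, e₂]⟩

theorem Over.move_spTv (h2 : (2 : F) = 0) (hM : Over F₀ M) {e f : V} (he : Rat F₀ e) (hf : Rat F₀ f)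
    (he0 : e ≠ 0) (hf0 : f ≠ 0) {c : F} (h : spTv e c ∈ M) : spTv f c ∈ M := by
  obtain ⟨g, hg, hge⟩ := hM.exists_move h2 he hf he0 hf0
  rw [← hge, ← conj_spTv (hM.le hg)]
  exact mul_mem (mul_mem hg h) (inv_mem hg)

/-- An irrational transvection at a rational centre gives all of them. -/
theorem Over.centreIn_of_long (h2 : (2 : F) = 0) (hM : Over F₀ M) {r : ℕ} (hr : r.Prime)
    (hcard : Fintype.card F = Nat.card F₀ ^ r) {e₀ : V} (he₀ : Rat F₀ e₀) (h0 : e₀ ≠ 0) {c₀ : F}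
    (hc₀ : c₀ ∉ F₀) (hT : spTv e₀ c₀ ∈ M) {v : V} (hv : Rat F₀ v) (hv0 : v ≠ 0) : CentreIn M v := by
  obtain ⟨f, a, b, hfr⟩ := exists_frame h2 hv hv0
  set e := v with hedef
  set L : Set F := {c | spTv e c ∈ M} with hL
  have hmv : ∀ {x : V}, Rat F₀ x → x ≠ 0 → ∀ {c : F}, c ∈ L → spTv x c ∈ M := fun {x} hx hx0 {c} hc =>
    hM.move_spTv h2 hfr.re hx hv0 hx0 hc
  have hc₀L : c₀ ∈ L := hM.move_spTv h2 he₀ hfr.re h0 hv0 hT
  have hadd : ∀ {x y : F}, x ∈ L → y ∈ L → x + y ∈ L := fun {x y} hx hy => by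
    show spTv e (x + y) ∈ M
    rw [← spTv_add]
    exact mul_mem hx hy
  have hF₀ : ∀ {k : F}, k ∈ F₀ → k ∈ L := fun hk => hM.spTv_rat hfr.re hk
  have hsmul : ∀ {k c : F}, k ∈ F₀ → c ∈ L → k * c ∈ L := fun {k c} hk hc => by
    rcases eq_or_ne k 0 with rfl | hk0
    · rw [zero_mul]; exact hF₀ F₀.zero_mem
    obtain ⟨s, hs, hss⟩ := exists_sq_mem h2 hk
    have hs0 : s ≠ 0 := fun e => hk0 (by rw [← hss, e, zero_mul])
    show spTv e (k * c) ∈ M
    rw [mul_comm, ← hss, ← spTv_smul]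
    exact hmv (hfr.re.smul hs) (fun e0 => hv0 ((smul_eq_zero.1 e0).resolve_left hs0)) hc
  have hab0 : a ≠ 0 ∧ b ≠ 0 ∧ a + e ≠ 0 ∧ b + e ≠ 0 := by
    have h1 := hfr.ab
    refine ⟨fun h => ?_, fun h => ?_, fun h => ?_, fun h => ?_⟩
    · rw [h, sesq_sympForm.zero_left] at h1; exact zero_ne_one h1
    · rw [h, sesq_sympForm.zero_right] at h1; exact zero_ne_one h1
    · have e1 := congrArg (fun z => ω z b) h
      simp only [add_l, h1, hfr.eb, add_zero, sesq_sympForm.zero_left] at e1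
      exact one_ne_zero e1
    · have e1 := congrArg (fun z => ω a z) h
      simp only [add_r, h1, sy h2 e a, hfr.ea, add_zero, sesq_sympForm.zero_right] at e1
      exact one_ne_zero e1
  -- root elements from transvections
  have hshort : ∀ {x : V}, Rat F₀ x → ω e x = 0 → x ≠ 0 → x + e ≠ 0 → ∀ {t : F}, t ∈ L →
      qElt e (t • x) 0 ∈ M := fun {x} hx hex hx0 hxe {t} ht => by
    rw [← qElt_smul_eq h2 hex]
    exact mul_mem (mul_mem (hmv (hx.add hfr.re) hxe ht) (hmv hx hx0 ht)) ht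
  have hpair : ∀ {t t' : F}, t ∈ L → t' ∈ L → qElt e ((t' * t) • b) (t' * (t * t)) ∈ M := fun {t t'} ht ht' => by
    have h := qElt_conj_spTv h2 (by rw [smul_r, hfr.ea, mul_zero]) hfr.eb 0 t'
      (hshort hfr.ra hfr.ea hab0.1 hab0.2.2.1 ht) (hmv hfr.rb hab0.2.1 ht')
    rwa [smul_l, hfr.ab, mul_one] at h
  have hpair' : ∀ {t t' : F}, t ∈ L → t' ∈ L → qElt e ((t' * t) • a) (t' * (t * t)) ∈ M := fun {t t'} ht ht' => by
    have h := qElt_conj_spTv h2 (by rw [smul_r, hfr.eb, mul_zero]) hfr.ea 0 t'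
      (hshort hfr.rb hfr.eb hab0.2.1 hab0.2.2.2 ht) (hmv hfr.ra hab0.1 ht')
    rwa [smul_l, sy h2 a b, hfr.ab, mul_one] at h
  have hsq : ∀ {t : F}, t ∈ L → t * t ∈ L := fun {t} ht => by
    have h1 := hpair ht (hF₀ F₀.one_mem)
    rw [one_mul, one_mul] at h1
    have h2' := spTv_mem_of_qElt h2 (by rw [smul_r, hfr.eb, mul_zero]) h1
      (hshort hfr.rb hfr.eb hab0.2.1 hab0.2.2.2 ht)
    rwa [add_zero] at h2'
  have hsqrt : ∀ {u : F}, u ∈ L → ∃ t ∈ L, t * t = u := fun {u} hu => by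
    have hinj : Function.Injective (fun x : L => (⟨x.1 * x.1, hsq x.2⟩ : L)) := fun x y hxy => by
      have e : (x.1 - y.1) * (x.1 - y.1) = 0 := by
        linear_combination congrArg Subtype.val hxy + (y.1 * y.1 - x.1 * y.1) * h2
      exact Subtype.ext (sub_eq_zero.1 (mul_self_eq_zero.1 e))
    obtain ⟨t, ht⟩ := Finite.injective_iff_surjective.1 hinj ⟨u, hu⟩
    exact ⟨t.1, t.2, congrArg Subtype.val ht⟩
  have hmult : ∀ {t' u : F}, t' ∈ L → u ∈ L → (t' + t' * t') * u ∈ L := fun {t' u} ht' hu => by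
    obtain ⟨t, ht, rfl⟩ := hsqrt hu
    have hga : (spTv a 1 : Mat) *ᵥ e = e := by rw [spTv_mulVec, hfr.ea, mul_zero, zero_smul, add_zero]
    have h1 := M.mul_mem (M.mul_mem (hM.spTv_rat hfr.ra F₀.one_mem) (hpair ht ht'))
      (M.inv_mem (hM.spTv_rat hfr.ra F₀.one_mem))
    rw [conj_qElt (spTv_mem a 1), hga, mulVec_smul, spTv_mulVec, one_mul, sy h2 a b, hfr.ab, one_smul] at h1
    have h3 := M.mul_mem (hpair' ht ht') (hpair ht ht')
    rw [qElt_mul h2 (by rw [smul_r, hfr.ea, mul_zero]) (by rw [smul_r, hfr.eb, mul_zero]), ← smul_add,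
      smul_l, smul_r, hfr.ab, mul_one, add_comm a] at h3
    have h4 := spTv_mem_of_qElt h2 (by rw [smul_r, add_r, hfr.eb, hfr.ea, add_zero, mul_zero]) h1 h3
    have e4 : (t' + t' * t') * (t * t) =
        t' * (t * t) + (t' * (t * t) + t' * (t * t) + t' * t * (t' * t)) := by
      linear_combination (-t' * (t * t)) * h2
    show spTv e _ ∈ M
    rw [e4]; exact h4
  -- the field case distinction
  haveI : Fintype F₀ := Fintype.ofFinite _
  have hfin : Module.finrank F₀ F = r := by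
    have h1 := @Module.card_eq_pow_finrank F₀ F _ _ _ _ _
    rw [hcard, Nat.card_eq_fintype_card] at h1
    exact (Nat.pow_right_injective Fintype.one_lt_card h1).symm
  haveI : IsSimpleOrder (Subalgebra F₀ F) := Subalgebra.isSimpleOrder_of_finrank_prime F₀ F (hfin ▸ hr)
  let R' : Subalgebra F₀ F :=
    { carrier := {x | ∀ u ∈ L, x * u ∈ L}
      mul_mem' := fun {x y} hx hy u hu => by rw [mul_assoc]; exact hx _ (hy u hu)
      add_mem' := fun {x y} hx hy u hu => by rw [add_mul]; exact hadd (hx u hu) (hy u hu)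
      algebraMap_mem' := fun k u hu => hsmul k.2 hu }
  have hall : ∀ x : F, x ∈ L := by
    intro x
    rcases eq_bot_or_eq_top R' with hR | hR
    · have ht : c₀ + c₀ * c₀ ∈ F₀ := by
        have : c₀ + c₀ * c₀ ∈ R' := fun u hu => hmult hc₀L hu
        rw [hR, Algebra.mem_bot] at this
        obtain ⟨k, hk⟩ := this
        rw [← hk]
        exact k.2
      let T : Subalgebra F₀ F :=
        { carrier := {x | ∃ k ∈ F₀, ∃ l ∈ F₀, x = k + l * c₀}
          mul_mem' := by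
            rintro _ _ ⟨k, hk, l, hl, rfl⟩ ⟨k', hk', l', hl', rfl⟩
            refine ⟨k * k' + l * l' * (c₀ + c₀ * c₀),
              F₀.add_mem (F₀.mul_mem hk hk') (F₀.mul_mem (F₀.mul_mem hl hl') ht),
              k * l' + l * k' + l * l',
              F₀.add_mem (F₀.add_mem (F₀.mul_mem hk hl') (F₀.mul_mem hl hk')) (F₀.mul_mem hl hl'), ?_⟩
            linear_combination (-l * l' * c₀) * h2
          add_mem' := by
            rintro _ _ ⟨k, hk, l, hl, rfl⟩ ⟨k', hk', l', hl', rfl⟩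
            exact ⟨k + k', F₀.add_mem hk hk', l + l', F₀.add_mem hl hl', by ring⟩
          algebraMap_mem' := fun k => ⟨k, k.2, 0, F₀.zero_mem, by rw [zero_mul, add_zero]; rfl⟩ }
      rcases eq_bot_or_eq_top T with hT' | hT'
      · have : c₀ ∈ T := ⟨0, F₀.zero_mem, 1, F₀.one_mem, by ring⟩
        rw [hT', Algebra.mem_bot] at this
        obtain ⟨k, hk⟩ := this
        exact absurd (hk ▸ k.2) hc₀
      · obtain ⟨k, hk, l, hl, rfl⟩ := hT'.symm ▸ (Algebra.mem_top : x ∈ (⊤ : Subalgebra F₀ F))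
        exact hadd (hF₀ hk) (hsmul hl hc₀L)
    · have : x ∈ R' := hR.symm ▸ Algebra.mem_top
      have h1 := this 1 (hF₀ F₀.one_mem)
      rwa [mul_one] at h1
  exact fun c => hall c

end CfsgLib.SpFourEven
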