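import Cfsg.Agent.SpFourEven.Subfield

/-!
# The dichotomy for overgroups of a subfield group
-/

set_option autoImplicit false
set_option linter.unusedSectionVars false

namespace CfsgLib.SpFourEven

open Matrix Cfsg.Geo CfsgLib.MaxSub

variable {F : Type*} [Field F] [Fintype F]

local notation "V" => (Fin 2 ⊕ Fin 2 → F)
local notation "ω" => Cfsg.sympForm 2 F
local notation "Mat" => Matrix (Fin 2 ⊕ Fin 2) (Fin 2 ⊕ Fin 2) F
local notation "G" => GL (Fin 2 ⊕ Fin 2) F

variable {F₀ : Subfield F} {M : Subgroup (GL (Fin 2 ⊕ Fin 2) F)}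

/-- Some transvection at a rational centre is irrational. -/
def HasLong (F₀ : Subfield F) (M : Subgroup G) : Prop :=
  ∃ e : V, Rat F₀ e ∧ e ≠ 0 ∧ ∃ c : F, c ∉ F₀ ∧ spTv e c ∈ M

/-- The step from the parameter `s` to the parameter `s ^ 2 + s ^ 3`. -/
theorem Over.long_sq (h2 : (2 : F) = 0) (hM : Over F₀ M) {e f a b : V} (hfr : Frame F₀ e f a b) {t : F}
    (ht : qElt e (t • b) (t * t) ∈ M) : spTv e ((t * t + t * t * t) * (t * t + t * t * t)) ∈ M := by
  have h1f := hfr.ef
  have hfe : ω f e = 1 := by rw [sy h2]; exact hfr.ef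
  have hba : ω b a = 1 := by rw [sy h2]; exact hfr.ab
  have hbe : ω b e = 0 := by rw [sy h2]; exact hfr.eb
  have hbf : ω b f = 0 := by rw [sy h2]; exact hfr.fb
  have hae : ω a e = 0 := by rw [sy h2]; exact hfr.ea
  have haf : ω a f = 0 := by rw [sy h2]; exact hfr.fa
  set w := qElt (e + b) (f + a) (0 : F) with hw
  have hwM : w ∈ M := hM.qElt_rat (hfr.re.add hfr.rb) (hfr.rf.add hfr.ra) F₀.zero_mem
  have hweq : ∀ x, (w : Mat) *ᵥ x = x + ω x (e + b) • (f + a) + ω x (f + a) • (e + b) := fun x => by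
    rw [hw, qElt_mulVec h2 (by rw [add_r, add_l, add_l, hfr.ef, hbf, hfr.ea, hba]; linear_combination h2),
      zero_mul, add_zero]
  have hwe : (w : Mat) *ᵥ e = b := by
    rw [hweq]
    simp only [add_r, self, hfr.eb, hfr.ef, hfr.ea, add_zero, zero_smul, one_smul]
    rw [← add_assoc, add_self h2, zero_add]
  have hwb : (w : Mat) *ᵥ b = e := by
    rw [hweq]
    simp only [add_r, self, hbe, hbf, hba, add_zero, zero_add, zero_smul, one_smul]
    rw [add_comm e, ← add_assoc, add_self h2, zero_add]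
  have hwa : (w : Mat) *ᵥ a = f := by
    rw [hweq]
    simp only [add_r, self, hae, haf, hfr.ab, add_zero, zero_add, zero_smul, one_smul]
    rw [add_comm f, ← add_assoc, add_self h2, zero_add]
  set h := w * spTv (a + b) 1 with hh
  have hhM : h ∈ M := mul_mem hwM (hM.spTv_rat (hfr.ra.add hfr.rb) F₀.one_mem)
  have hhe : (h : Mat) *ᵥ e = b := by
    rw [hh, Units.val_mul, ← mulVec_mulVec, spTv_mulVec, add_r, hfr.ea, hfr.eb, add_zero, mul_zero,
      zero_smul, add_zero, hwe]
  have hhb : (h : Mat) *ᵥ b = f := by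
    rw [hh, Units.val_mul, ← mulVec_mulVec, spTv_mulVec, add_r, hba, self, add_zero, one_mul, one_smul,
      add_comm a, ← add_assoc, add_self h2, zero_add, hwa]
  have hE' : qElt b (t • f) (t * t) ∈ M := by
    have h1 := mul_mem (mul_mem hhM ht) (inv_mem hhM)
    rwa [conj_qElt (hM.le hhM), hhe, mulVec_smul, hhb] at h1
  have hb_tf : ω b (t • f) = 0 := by rw [smul_r, hbf, mul_zero]
  have hE'e : (qElt b (t • f) (t * t) : Mat) *ᵥ e = e + t • b := by
    rw [qElt_mulVec h2 hb_tf, hfr.eb, zero_smul, add_zero, smul_r, hfr.ef, mul_one, mul_zero, add_zero]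
  have hE'b : (qElt b (t • f) (t * t) : Mat) *ᵥ (t • b) = t • b := by
    rw [mulVec_smul, qElt_mulVec h2 hb_tf, self, zero_smul, add_zero, smul_r, hbf, mul_zero, mul_zero,
      add_zero, zero_smul, add_zero]
  have hP : qElt b ((t * t * t) • e) (t * t * (t * t)) ∈ M := by
    have h1 := mul_mem ht (mul_mem (mul_mem hE' ht) (inv_mem hE'))
    rw [conj_qElt (qElt_mem _ _ _), hE'e, hE'b] at h1
    convert h1 using 1
    refine sp_ext fun x => ?_
    rw [qElt_mulVec h2 (by rw [smul_r, hbe, mul_zero]), Units.val_mul, ← mulVec_mulVec,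
      qElt_mulVec h2 (by rw [smul_r, hfr.eb, mul_zero]),
      qElt_mulVec h2 (by rw [smul_r, add_l, smul_l, hfr.eb, self, mul_zero, add_zero, mul_zero])]
    simp only [add_l, add_r, smul_l, smul_r, self, hfr.eb, hbe, mul_zero, add_zero]
    match_scalars <;> ring_nf <;> simp [h2]
  have hP' : qElt e ((t * t * t) • b) (t * t * (t * t)) ∈ M := by
    have h1 := mul_mem (mul_mem hwM hP) (inv_mem hwM)
    rwa [conj_qElt (hM.le hwM), hwb, mulVec_smul, hwe] at h1
  set u := t * t * t with hu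
  have h3 : qElt e (u • a) (u * u) ∈ M := by
    have h1 := qElt_conj_spTv h2 (by rw [smul_r, hfr.eb, mul_zero]) hfr.ea _ 1 hP'
      (hM.spTv_rat hfr.ra F₀.one_mem)
    rwa [smul_l, hba, mul_one, one_mul, one_mul] at h1
  have h4 : qElt e (u • b) (u * u) ∈ M := by
    have h1 := qElt_conj_spTv h2 (by rw [smul_r, hfr.ea, mul_zero]) hfr.eb _ 1 h3
      (hM.spTv_rat hfr.rb F₀.one_mem)
    rwa [smul_l, hfr.ab, mul_one, one_mul, one_mul] at h1
  have h5 := spTv_mem_of_qElt h2 (by rw [smul_r, hfr.eb, mul_zero]) hP' h4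
  rw [show (t * t + u) * (t * t + u) = t * t * (t * t) + u * u by linear_combination (t * t * u) * h2]
  exact h5

/-- An irrational root element gives an irrational transvection. -/
theorem Over.long_of_qElt (h2 : (2 : F) = 0) (hM : Over F₀ M) {e f a b : V} (hfr : Frame F₀ e f a b)
    {x : V} {c : F} (hex : ω e x = 0) (hs : ω x b ∉ F₀) (hq : qElt e x c ∈ M) : HasLong F₀ M := by
  set s := ω x b with hsdef
  have hP : qElt e (s • b) (s * s) ∈ M := by
    have h1 := qElt_conj_spTv h2 hex hfr.eb c 1 hq (hM.spTv_rat hfr.rb F₀.one_mem)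
    rwa [one_mul, one_mul] at h1
  have hP1 : qElt e ((s + 1) • b) ((s + 1) * (s + 1)) ∈ M := by
    have h1 := mul_mem hP (hM.qElt_rat (c := 1) hfr.re hfr.rb F₀.one_mem)
    rw [qElt_mul h2 (by rw [smul_r, hfr.eb, mul_zero]) hfr.eb, smul_l, self, mul_zero, add_zero] at h1
    rwa [add_smul, one_smul, show (s + 1) * (s + 1) = s * s + 1 by linear_combination s * h2]
  have he0 : e ≠ 0 := fun h => by
    have h1 := hfr.ef
    rw [h, sesq_sympForm.zero_left] at h1
    exact zero_ne_one h1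
  by_contra hno
  have hrat : ∀ {t : F}, qElt e (t • b) (t * t) ∈ M → t * t + t * t * t ∈ F₀ := fun {t} ht => by
    refine mem_of_sq_mem h2 ?_
    by_contra hne
    exact hno ⟨e, hfr.re, he0, _, by rw [pow_two] at hne; exact hne, hM.long_sq h2 hfr ht⟩
  have h1 := hrat hP
  have h1' := hrat hP1
  set k₁ := s * s + s with hk₁
  have hk : k₁ ∈ F₀ := by
    have h3 := F₀.add_mem h1 h1'
    rwa [show s * s + s * s * s + ((s + 1) * (s + 1) + (s + 1) * (s + 1) * (s + 1)) = k₁ by
      rw [hk₁]; linear_combination (s * s * s + 2 * (s * s) + 2 * s + 1) * h2] at h3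
  -- then `k₁ * s` is rational
  have h3 : k₁ * s ∈ F₀ := by
    rwa [show k₁ * s = s * s + s * s * s by rw [hk₁]; ring]
  by_cases hk0 : k₁ = 0
  · have : s * (s + 1) = 0 := by rw [hk₁] at hk0; linear_combination hk0
    rcases mul_eq_zero.1 this with h | h
    · exact hs (h ▸ F₀.zero_mem)
    · exact hs ((show s = 1 by linear_combination h - h2) ▸ F₀.one_mem)
  · exact hs (by simpa [hk0] using F₀.mul_mem (F₀.inv_mem hk) h3)

/-- A transvection with an irrational centre orthogonal to a rational vector. -/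
theorem Over.long_of_centre (h2 : (2 : F) = 0) (hM : Over F₀ M) {u e : V} (he : Rat F₀ e) (he0 : e ≠ 0)
    (heu : ω u e = 0) (hu : ¬ Rat F₀ u) (hT : spTv u 1 ∈ M) : HasLong F₀ M := by
  obtain ⟨f, a, b, hfr⟩ := exists_frame h2 he he0
  have hpair : ∀ {d : V}, ω e d = 0 → ∀ {x : F}, spTv d 1 ∈ M → spTv (d + x • e) 1 ∈ M →
      qElt e (x • d) (x * x) ∈ M := fun {d} hed {x} h h' => by
    convert mul_mem h' h using 1
    refine sp_ext fun y => ?_
    rw [qElt_mulVec h2 (by rw [smul_r, hed, mul_zero]), Units.val_mul, ← mulVec_mulVec]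
    simp only [spTv_mulVec, one_mul, add_l, add_r, smul_l, smul_r, self, hed, sy h2 e d, mul_zero, add_zero]
    match_scalars <;> ring_nf <;> simp [h2]
  have heu' : ω e u = 0 := by rw [sy h2]; exact heu
  have key : ∀ {a' b' : V}, Frame F₀ e f a' b' → ω u a' ∉ F₀ → HasLong F₀ M := fun {a' b'} hf' hα => by
    set α := ω u a' with hαdef
    have hg := mul_mem (mul_mem (hM.qElt_rat (c := 0) he hf'.ra F₀.zero_mem) hT)
      (inv_mem (hM.qElt_rat (c := 0) he hf'.ra F₀.zero_mem))
    rw [conj_spTv (qElt_mem _ _ _), qElt_mulVec h2 hf'.ea, heu, zero_smul, add_zero, zero_mul, add_zero,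
      ← hαdef] at hg
    refine hM.long_of_qElt h2 (hf'.swap h2) (x := α • u) (by rw [smul_r, heu', mul_zero]) (fun h => hα ?_)
      (hpair heu' hT hg)
    refine mem_of_sq_mem h2 ?_
    rw [smul_l, ← hαdef] at h
    rwa [pow_two]
  by_cases ha : ω u a ∈ F₀
  swap
  · exact key hfr ha
  by_cases hb : ω u b ∈ F₀
  swap
  · exact key (hfr.swap h2) hb
  set x₁ := ω u f with hx₁
  set d := ω u b • a + ω u a • b with hd
  have hdr : Rat F₀ d := (hfr.ra.smul hb).add (hfr.rb.smul ha)
  have hdec : u = d + x₁ • e := by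
    conv_lhs => rw [hfr.decomp h2 u]
    rw [heu, hd, hx₁]
    module
  have hx : x₁ ∉ F₀ := fun h => hu (hdec ▸ hdr.add (he.smul h))
  by_cases hd0 : d = 0
  · refine ⟨e, he, he0, x₁ * x₁, fun h => hx (mem_of_sq_mem h2 (by rwa [pow_two])), ?_⟩
    rw [hdec, hd0, zero_add, spTv_one_smul e rfl] at hT
    exact hT
  have hed : ω e d = 0 := by rw [hd, add_r, smul_r, smul_r, hfr.ea, hfr.eb, mul_zero, mul_zero, add_zero]
  have hq : qElt e (x₁ • d) (x₁ * x₁) ∈ M :=
    hpair hed (hM.spTv_rat hdr F₀.one_mem) (hdec ▸ hT)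
  have hdb : ω d b = ω u b := by rw [hd, add_l, smul_l, smul_l, hfr.ab, self, mul_one, mul_zero, add_zero]
  have hda : ω d a = ω u a := by
    rw [hd, add_l, smul_l, smul_l, self, sy h2 a b, hfr.ab, mul_zero, mul_one, zero_add]
  by_cases hb0 : ω u b = 0
  · have ha0 : ω u a ≠ 0 := fun h => hd0 (by rw [hd, hb0, h, zero_smul, zero_smul, add_zero])
    refine hM.long_of_qElt h2 (hfr.swap h2) (by rw [smul_r, hed, mul_zero]) (fun h => hx ?_) hq
    rw [smul_l, hda] at h
    simpa [ha0] using F₀.mul_mem h (F₀.inv_mem ha)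
  · refine hM.long_of_qElt h2 hfr (by rw [smul_r, hed, mul_zero]) (fun h => hx ?_) hq
    rw [smul_l, hdb] at h
    simpa [hb0] using F₀.mul_mem h (F₀.inv_mem hb)

/-- Two involutions with a product of odd order are conjugate. -/
theorem exists_conj_of_odd {H : Type*} [Group H] {s t : H} (hs : s * s = 1) (ht : t * t = 1) {k : ℕ}
    (h : (s * t) ^ (2 * k + 1) = 1) : (s * t) ^ k * s * ((s * t) ^ k)⁻¹ = t := by
  have hs' : s⁻¹ = s := inv_eq_of_mul_eq_one_right hs
  have ht' : t⁻¹ = t := inv_eq_of_mul_eq_one_right ht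
  have hc : s * (s * t) * s⁻¹ = (s * t)⁻¹ := by
    rw [_root_.mul_inv_rev, ht', hs', ← mul_assoc s, hs, one_mul]
  have h1 : ((s * t) ^ k)⁻¹ = s * (s * t) ^ k * s⁻¹ := by rw [← conj_pow, hc, inv_pow]
  rw [pow_succ, two_mul, pow_add] at h
  calc (s * t) ^ k * s * ((s * t) ^ k)⁻¹ = (s * t) ^ k * (s * s) * (s * t) ^ k * s⁻¹ := by
        rw [h1]; simp only [mul_assoc]
    _ = (s * t) ^ k * (s * t) ^ k * s⁻¹ := by rw [hs, mul_one]
    _ = (s * t)⁻¹ * s⁻¹ := by rw [eq_inv_of_mul_eq_one_left h]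
    _ = t := by rw [_root_.mul_inv_rev, ht', hs', mul_assoc, hs, mul_one]

/-- An overgroup is rational or contains an irrational transvection with rational centre. -/
theorem Over.rat_or_long (h2 : (2 : F) = 0) (hM : Over F₀ M) :
    (∀ g ∈ M, ∀ v, Rat F₀ v → Rat F₀ ((g : Mat) *ᵥ v)) ∨ HasLong F₀ M := by
  classical
  by_contra hcon
  push Not at hcon
  obtain ⟨⟨g, hg, v, hv, hgv⟩, hno⟩ := hcon
  have hS : ∀ {u e : V}, Rat F₀ e → e ≠ 0 → ω u e = 0 → spTv u 1 ∈ M → Rat F₀ u :=
    fun {u e} he he0 heu hT => by_contra fun hu => hno (hM.long_of_centre h2 he he0 heu hu hT)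
  have himage : ∀ {h : G}, h ∈ M → ∀ {x : V}, Rat F₀ x → spTv ((h : Mat) *ᵥ x) 1 ∈ M := fun {h} hh {x} hx => by
    rw [← conj_spTv (hM.le hh)]
    exact mul_mem (mul_mem hh (hM.spTv_rat hx F₀.one_mem)) (inv_mem hh)
  -- stabilisers of rational vectors are rational
  have hstab : ∀ {h : G}, h ∈ M → ∀ {e : V}, Rat F₀ e → e ≠ 0 → (h : Mat) *ᵥ e = e →
      ∀ x, Rat F₀ x → Rat F₀ ((h : Mat) *ᵥ x) := fun {h} hh {e} he he0 hhe x hx => by
    obtain ⟨f, a, b, hfr⟩ := exists_frame h2 he he0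
    have hpres := mem_of_mulVec_eq (hM.le hh)
    have hperp : ∀ {y : V}, Rat F₀ y → ω e y = 0 → Rat F₀ ((h : Mat) *ᵥ y) := fun {y} hy hey =>
      hS he he0 (by rw [← hhe, hpres, sy h2]; exact hey) (himage hh hy)
    have hga := hperp hfr.ra hfr.ea
    have ha0 : a ≠ 0 := fun h0 => by
      have h1 := hfr.ab
      rw [h0, sesq_sympForm.zero_left] at h1
      exact zero_ne_one h1
    have hgf : Rat F₀ ((h : Mat) *ᵥ f) :=
      hS hga (fun e0 => ha0 (mulVec_eq_zero e0)) (by rw [hpres]; exact hfr.fa) (himage hh hfr.rf)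
    rw [hfr.decomp h2 x, mulVec_add, mulVec_add, mulVec_add, mulVec_smul, mulVec_smul, mulVec_smul,
      mulVec_smul, hhe]
    exact (((he.smul (hx.form hfr.rf)).add (hgf.smul (hx.form hfr.re))).add
      (hga.smul (hx.form hfr.rb))).add ((hperp hfr.rb hfr.eb).smul (hx.form hfr.ra))
  set u := (g : Mat) *ᵥ v with hu
  have hTu : spTv u 1 ∈ M := himage hg hv
  have hu0 : u ≠ 0 := fun h => hgv (by rw [h]; exact fun i => F₀.zero_mem)
  have horth : ∀ {x : V}, Rat F₀ x → ω u x = 0 → x = 0 := fun {x} hx h =>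
    by_contra fun hx0 => hgv (hS hx hx0 h hTu)
  -- a product of two commuting rational transvections
  have hv0 : v ≠ 0 := fun h => hu0 (by rw [hu, h, mulVec_zero])
  obtain ⟨f, a, b, hfr⟩ := exists_frame h2 hv hv0
  set j := spTv v 1 * spTv a 1 with hj
  have hjM : j ∈ M := mul_mem (hM.spTv_rat hv F₀.one_mem) (hM.spTv_rat hfr.ra F₀.one_mem)
  have hjx : ∀ x, (j : Mat) *ᵥ x = x + ω x v • v + ω x a • a := fun x => by
    rw [hj, Units.val_mul, ← mulVec_mulVec, spTv_mulVec, spTv_mulVec, add_l, smul_l, sy h2 v a, hfr.ea,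
      mul_zero, add_zero, one_mul, one_mul]
    abel
  have hsq : ∀ y : V, spTv y (1 : F) * spTv y 1 = 1 := fun y => by
    rw [spTv_add, one_add_one_eq_two, h2, spTv_zero]
  have hj2 : j * j = 1 := by
    refine sp_ext fun x => ?_
    rw [Units.val_mul, ← mulVec_mulVec, hjx, hjx, Units.val_one, one_mulVec]
    simp only [add_l, smul_l, self, hfr.ea, sy h2 v a, mul_zero, add_zero]
    match_scalars <;> ring_nf <;> simp [h2]
  set s := spTv u (1 : F) with hs
  have hnotconj : ∀ y : V, spTv y (1 : F) ≠ j := fun y hy => by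
    have e1 := congrArg (fun x : G => (x : Mat) *ᵥ f) hy
    have e2 := congrArg (fun x : G => (x : Mat) *ᵥ b) hy
    simp only [spTv_mulVec, hjx, one_mul, sy h2 v f, hfr.ef, hfr.fa, sy h2 v b, hfr.eb, sy h2 a b, hfr.ab,
      one_smul, zero_smul, add_zero] at e1 e2
    have h3 : ω f y • y = v := add_left_cancel e1
    have h4 : ω b y • y = a := add_left_cancel e2
    have h1 := hfr.ef
    have h5 : ω b y = 0 := by
      have h6 := congrArg (fun z => ω z f) h4
      simp only [smul_l, sy h2 f a, hfr.fa] at h6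
      rcases mul_eq_zero.1 h6 with h7 | h7
      · exact h7
      · rw [← h3, smul_l, h7, mul_zero] at h1
        exact absurd h1 zero_ne_one
    rw [h5, zero_smul] at h4
    have h8 := hfr.ab
    rw [← h4, sesq_sympForm.zero_left] at h8
    exact zero_ne_one h8
  rcases Nat.even_or_odd (orderOf (s * j)) with ⟨k, hk⟩ | ⟨k, hk⟩
  · -- a central involution of the dihedral group
    have hpos : 0 < orderOf (s * j) := orderOf_pos _
    set z := (s * j) ^ k with hz
    have hz1 : z ≠ 1 := fun e => by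
      have := orderOf_le_of_pow_eq_one (by omega) e
      omega
    have hz2 : z⁻¹ = z := by
      rw [inv_eq_iff_mul_eq_one, hz, ← pow_add, ← hk, pow_orderOf_eq_one]
    have hzM : z ∈ M := pow_mem (mul_mem hTu hjM) k
    have hcs : z * s * z⁻¹ = s := by
      have hinv : s * (s * j) * s⁻¹ = (s * j)⁻¹ := by
        rw [_root_.mul_inv_rev, inv_eq_of_mul_eq_one_right hj2, inv_eq_of_mul_eq_one_right (hsq u), ← mul_assoc s,
          hsq u, one_mul]
      have h1 : s * z * s⁻¹ = z := by rw [hz, ← conj_pow, hinv, inv_pow, ← hz, hz2]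
      calc z * s * z⁻¹ = (s * z * s⁻¹) * s * z⁻¹ := by rw [h1]
        _ = s := by group
    have hcj : z * j = j * z := by
      have h1 : z * (s * j) = (s * j) * z := by rw [hz, ← pow_succ, pow_succ']
      have h3 : z * s = s * z := by rw [mul_inv_eq_iff_eq_mul] at hcs; exact hcs
      calc z * j = s⁻¹ * (z * s) * j := by rw [h3]; group
        _ = s⁻¹ * (z * (s * j)) := by group
        _ = j * z := by rw [h1]; group
    have hzu : (z : Mat) *ᵥ u = u := by
      rw [hs, conj_spTv (hM.le hzM)] at hcs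
      exact spTv_one_inj h2 hcs (fun e => hu0 (mulVec_eq_zero e))
    -- `z` fixes the rational vector `v + a`
    set y := v + a with hy
    have hval : ∀ x, ω ((j : Mat) *ᵥ x) x = ω x y * ω x y := fun x => by
      rw [hjx, add_l, add_l, smul_l, smul_l, self, sy h2 x v, sy h2 x a, hy, add_r]
      linear_combination (-(ω x v * ω x a)) * h2
    have hyz : ∀ x, ω ((z : Mat) *ᵥ x) y = ω x y := fun x => by
      have h1 : ω ((z : Mat) *ᵥ x) y * ω ((z : Mat) *ᵥ x) y = ω x y * ω x y := by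
        rw [← hval, ← hval, mulVec_mulVec, ← Units.val_mul, ← hcj, Units.val_mul, ← mulVec_mulVec,
          mem_of_mulVec_eq (hM.le hzM)]
      have h3 : (ω ((z : Mat) *ᵥ x) y - ω x y) * (ω ((z : Mat) *ᵥ x) y - ω x y) = 0 := by
        linear_combination h1 + (ω x y * ω x y - ω ((z : Mat) *ᵥ x) y * ω x y) * h2
      exact sub_eq_zero.1 (mul_self_eq_zero.1 h3)
    have hzy : (z : Mat) *ᵥ y = y := by
      rw [← sub_eq_zero]
      by_contra hne
      obtain ⟨x, hx⟩ := (isSymplecticForm_sympForm.nondegenerate _ hne).1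
      refine hx ?_
      have h4 : ω x ((z : Mat) *ᵥ y) = ω x y := by
        have h5 := mem_of_mulVec_eq (hM.le hzM) ((z : Mat) *ᵥ x) y
        rw [mulVec_mulVec, ← Units.val_mul, show z * z = 1 by rw [← inv_eq_iff_mul_eq_one, hz2],
          Units.val_one, one_mulVec, hyz] at h5
        exact h5
      rw [sesq_sympForm.sub_right, h4, sub_self]
    have hy0 : y ≠ 0 := fun e => by
      have h1 := congrArg (fun w => ω w f) e
      simp only [hy, add_l, hfr.ef, sy h2 f a, hfr.fa, add_zero, sesq_sympForm.zero_left] at h1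
      exact one_ne_zero h1
    refine hz1 (sp_ext fun x => ?_)
    rw [Units.val_one, one_mulVec]
    have hall : ∀ i, (z : Mat) *ᵥ Pi.single i 1 = Pi.single i 1 := fun i => by
      have hr := hstab hzM (hv.add hfr.ra) hy0 hzy _ (rat_single F₀ i)
      rw [← sub_eq_zero, sub_eq_add_neg]
      refine horth (hr.add fun k => F₀.neg_mem (rat_single F₀ i k)) ?_
      rw [← sub_eq_add_neg, sesq_sympForm.sub_right]
      conv_lhs => arg 1; rw [← hzu]
      rw [mem_of_mulVec_eq (hM.le hzM), sub_self]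
    rw [← Finset.univ_sum_single x, Matrix.mulVec_sum]
    refine Finset.sum_congr rfl fun i _ => ?_
    rw [show (Pi.single i (x i) : V) = x i • Pi.single i (1 : F) by
      rw [← Pi.single_smul, smul_eq_mul, mul_one], mulVec_smul, hall]
  · have h1 := exists_conj_of_odd (hsq u) hj2 (hk ▸ pow_orderOf_eq_one (s * j))
    rw [conj_spTv (hM.le (pow_mem (mul_mem hTu hjM) k))] at h1
    exact hnotconj _ h1

end CfsgLib.SpFourEven
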